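import Groth.Agent.EtpbcA.P1Charts

/-!
# Base change of the standard charts of the projective line

* `amap φ : Spec C[X] ⟶ Spec B[X]`;
* `isPullback_amap`, `isPullback_chart_mapBase`, `chart_mapBase`.
-/

set_option autoImplicit false
universe u
open CategoryTheory CategoryTheory.Limits AlgebraicGeometry Opposite

namespace Groth.Agent.Sga4h.H919.P1Geo

open Groth.Agent.EtpbcA.P1Charts P1 Groth.Agent.CycB.P1Chart
open Groth.Agent.Dix.ProjProper (mapBase mapBase_toZ mapBase_toBase isPullback_mapBase)

variable {B C : CommRingCat.{u}} (φ : B ⟶ C)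

/-- the map of affine lines -/
noncomputable abbrev amap : AA C ⟶ AA B :=
  Spec.map (CommRingCat.ofHom (Polynomial.mapRingHom φ.hom))

theorem isPullback_amap : IsPullback (amap φ) (pr C) (pr B) (Spec.map φ) := by
  have h : IsPushout (CommRingCat.ofHom (Polynomial.C : B →+* Polynomial B)) φ
      (CommRingCat.ofHom (Polynomial.mapRingHom φ.hom))
      (CommRingCat.ofHom (Polynomial.C : C →+* Polynomial C)) := by
    refine ⟨⟨by ext; simp⟩, ⟨PushoutCocone.IsColimit.mk _
      (fun s => CommRingCat.ofHom (Polynomial.eval₂RingHom s.inr.hom (s.inl.hom Polynomial.X))) ?_ ?_ ?_⟩⟩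
    · intro s
      apply CommRingCat.hom_ext
      apply Polynomial.ringHom_ext
      · intro b
        have := congrArg (fun t => t.hom b) s.condition
        change s.inl.hom (Polynomial.C b) = s.inr.hom (φ.hom b) at this
        change (Polynomial.eval₂RingHom s.inr.hom (s.inl.hom Polynomial.X))
          (Polynomial.mapRingHom φ.hom (Polynomial.C b)) = s.inl.hom (Polynomial.C b)
        rw [this]
        simp
      · change (Polynomial.eval₂RingHom s.inr.hom (s.inl.hom Polynomial.X))
          (Polynomial.mapRingHom φ.hom Polynomial.X) = s.inl.hom Polynomial.X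
        simp
    · intro s
      ext b
      change (Polynomial.eval₂RingHom s.inr.hom (s.inl.hom Polynomial.X)) (Polynomial.C b) = _
      simp
    · intro s m h1 h2
      apply CommRingCat.hom_ext
      apply Polynomial.ringHom_ext
      · intro b
        have := congrArg (fun t => t.hom b) h2
        change m.hom (Polynomial.C b) = _ at this
        rw [this]
        change _ = (Polynomial.eval₂RingHom s.inr.hom (s.inl.hom Polynomial.X)) (Polynomial.C b)
        simp
      · have := congrArg (fun t => t.hom (Polynomial.X : Polynomial B)) h1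
        change m.hom (Polynomial.mapRingHom φ.hom Polynomial.X) = s.inl.hom Polynomial.X at this
        rw [Polynomial.coe_mapRingHom, Polynomial.map_X] at this
        rw [this]
        change _ = (Polynomial.eval₂RingHom s.inr.hom (s.inl.hom Polynomial.X)) Polynomial.X
        simp
  exact isPullback_SpecMap_of_isPushout _ _ _ _ h

theorem amap_cmap (i : Fin (1 + 1)) :
    amap φ ≫ Spec.map (CommRingCat.ofHom (cmap i B)) = Spec.map (CommRingCat.ofHom (cmap i C)) := by
  rw [← Spec.map_comp]
  congr 1
  apply CommRingCat.hom_ext
  apply chart_hom_ext i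
  change (Polynomial.mapRingHom φ.hom) (cmap i B (coord i)) = cmap i C (coord i)
  rw [cmap, chartMap_coord, cmap, chartMap_coord]
  simp

@[reassoc]
theorem chart_mapBase (i : Fin (1 + 1)) :
    chart i C ≫ mapBase 1 (Spec.map φ) = amap φ ≫ chart i B := by
  have h2 : IsPullback (toZ (Spec B)) (toB B) (CohB1.ProjSpace.toSpec 1 R0.{u})
    (specULiftZIsTerminal.from (Spec B)) := IsPullback.of_hasPullback _ _
  apply h2.hom_ext
  · rw [Category.assoc, Category.assoc, chart_toZ, ← Category.assoc (amap φ), amap_cmap]
    refine Eq.trans ?_ (chart_toZ i C)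
    congr 1
    exact mapBase_toZ 1 (Spec.map φ)
  · rw [Category.assoc, Category.assoc, chart_toB, mapBase_toBase, chart_toB_assoc,
      (isPullback_amap φ).w]

theorem isPullback_chart_mapBase (i : Fin (1 + 1)) :
    IsPullback (amap φ) (chart i C) (chart i B) (mapBase 1 (Spec.map φ)) := by
  refine IsPullback.of_right ?_ (chart_mapBase φ i).symm (isPullback_chart i B)
  rw [amap_cmap]
  have e : mapBase 1 (Spec.map φ) ≫ toZ (Spec B) = toZ (Spec C) := mapBase_toZ 1 (Spec.map φ)
  rw [e]
  exact isPullback_chart i C

end Groth.Agent.Sga4h.H919.P1Geo
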