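import Groth.Agent.Sga4h.H919.P1Main

/-!
# Additive systems of invertible sheaves and the twisted sheaves on projective lines

* `ASys k Λ`: invertible sheaves `sh ρ f` for functions `f` on affine `k`-schemes, additive in `f`,
  compatible with pull-back, trivial for `f = z ^ q - z`;
* `Fa S ρ i ι a M`: for `ι : K → R`, `a ∈ R` and `M` on `A^1_K`, the sheaf `j_! (p^* M ⊗ sh (a x))` on
  `P^1_R`; `bcFa`: base change.
-/

set_option autoImplicit false
universe u

open CategoryTheory CategoryTheory.Limits AlgebraicGeometry Opposite IsLocalRing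

namespace Groth.Agent.Sga4h.H919.Fam

open EtCoh ConcH Les3 NearTheta NearMain P1Geo LaTwist LaPoint P1Main
  Groth.Agent.EtpbcA.P1Charts Groth.Agent.EtpbcA.LA Groth.Agent.Etrest.StrictLoc
  Groth.Agent.Sga1.UlaSL Groth.Agent.Etrest.ModAb Groth.Agent.Sga5.H835.TensInv
  Groth.Agent.Etcore.LPullComp
open Groth.Agent.Dix.ProjProper (mapBase mapBase_toZ mapBase_toBase isPullback_mapBase)

/-- An additive system of invertible sheaves on affine `k`-schemes. -/
structure ASys (k : Type u) [Field k] [Fintype k] (Λ : Type (u + 1)) [CommRing Λ] where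
  /-- the sheaf attached to a function -/
  sh : ∀ {R : Type u} [CommRing R] (_ : k →+* R) (_ : R), EtModW.Mod Λ (Spec (CommRingCat.of R))
  inv : ∀ {R : Type u} [CommRing R] (ρ : k →+* R) (f : R), SGA5.IsInvertible (sh ρ f)
  pull : ∀ {R R' : Type u} [CommRing R] [CommRing R'] (ρ : k →+* R) (f : R) (φ : R →+* R'),
    Nonempty ((EtModW.pull Λ (Spec.map (CommRingCat.ofHom φ))).obj (sh ρ f) ≅ sh (φ.comp ρ) (φ f))
  add : ∀ {R : Type u} [CommRing R] (ρ : k →+* R) (f g : R),
    Nonempty (sh ρ (f + g) ≅ ((EtModD.tensorBi Λ _).obj (sh ρ f)).obj (sh ρ g))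
  triv : ∀ {R : Type u} [CommRing R] (ρ : k →+* R) (z : R),
    Nonempty (sh ρ (z ^ Fintype.card k - z) ≅ EtModW.constMod Λ _ Λ)

variable {k : Type u} [Field k] [Fintype k] {Λ : Type (u + 1)} [CommRing Λ]

theorem ASys.zero (S : ASys k Λ) {R : Type u} [CommRing R] (ρ : k →+* R) :
    Nonempty (S.sh ρ 0 ≅ EtModW.constMod Λ _ Λ) := by
  have h := S.triv ρ (0 : R)
  rwa [zero_pow Fintype.card_ne_zero, sub_zero] at h

variable (S : ASys k Λ) {K : Type u} [Field K] (ρ : k →+* K) (i : Fin (1 + 1))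

/-- The sheaf `sh (a x)` on `A^1_R`. -/
noncomputable abbrev Lsh {R : Type u} [CommRing R] (ι : K →+* R) (a : R) :
    EtModW.Mod Λ (AA (CommRingCat.of R)) :=
  S.sh (((Polynomial.C : R →+* Polynomial R).comp ι).comp ρ) (Polynomial.C a * Polynomial.X)

/-- The sheaf `j_! (p^* M ⊗ sh (a x))` on `P^1_R`. -/
noncomputable abbrev Fa {R : Type u} [CommRing R] (ι : K →+* R) (a : R)
    (M : EtModW.Mod Λ (AA (CommRingCat.of K))) : Ab (PP (CommRingCat.of R)) :=
  (shF (chart i (CommRingCat.of R)) (prA ι) (Lsh S ρ ι a)).obj M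

theorem amap_comp {R R' : Type u} [CommRing R] [CommRing R'] (ι : K →+* R) (g : R →+* R') :
    (amap (CommRingCat.ofHom g) : AA (CommRingCat.of R') ⟶ AA (CommRingCat.of R)) ≫
      amap (CommRingCat.ofHom ι) = amap (CommRingCat.ofHom (g.comp ι)) := by
  rw [← Spec.map_comp, ← CommRingCat.ofHom_comp]
  congr 2
  exact Polynomial.ringHom_ext (fun a => by simp) (by simp)

theorem nonempty_pull_Lsh {R R' : Type u} [CommRing R] [CommRing R'] (ι : K →+* R) (a : R)
    (g : R →+* R') :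
    Nonempty ((EtModW.pull Λ (amap (CommRingCat.ofHom g) :
      AA (CommRingCat.of R') ⟶ AA (CommRingCat.of R))).obj (Lsh S ρ ι a) ≅ Lsh S ρ (g.comp ι) (g a)) := by
  obtain ⟨e⟩ := S.pull (((Polynomial.C : R →+* Polynomial R).comp ι).comp ρ)
    (Polynomial.C a * Polynomial.X) (Polynomial.mapRingHom g)
  have h1 : (Polynomial.mapRingHom g).comp (((Polynomial.C : R →+* Polynomial R).comp ι).comp ρ) =
      ((Polynomial.C : R' →+* Polynomial R').comp (g.comp ι)).comp ρ := by
    ext x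
    simp
  have h2 : (Polynomial.mapRingHom g) (Polynomial.C a * Polynomial.X) =
      Polynomial.C (g a) * Polynomial.X := by simp
  rw [h1, h2] at e
  exact ⟨e⟩

/-- Base change of the sheaves `Fa`. -/
theorem bcFa {R R' : Type u} [CommRing R] [CommRing R'] (ι : K →+* R) (a : R) (g : R →+* R')
    (M : EtModW.Mod Λ (AA (CommRingCat.of K))) :
    Nonempty ((pull (mapBase 1 (Spec.map (CommRingCat.ofHom g)))).obj (Fa S ρ i ι a M) ≅
      Fa S ρ i (g.comp ι) (g a) M) := by
  obtain ⟨e⟩ := nonempty_pull_Lsh S ρ ι a g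
  have w : (amap (CommRingCat.ofHom g) : AA (CommRingCat.of R') ⟶ AA (CommRingCat.of R)) ≫ prA ι =
      prA (g.comp ι) ≫ 𝟙 _ := by rw [Category.comp_id, amap_comp]
  refine ⟨(thetaIso (chart i (CommRingCat.of R)) (prA ι) (Lsh S ρ ι a)
    (mapBase 1 (Spec.map (CommRingCat.ofHom g))) (chart i (CommRingCat.of R'))
    (amap (CommRingCat.ofHom g)) (isPullback_chart_mapBase (CommRingCat.ofHom g) i).flip
    (prA (g.comp ι)) (𝟙 _) w).app M ≪≫ ?_⟩
  refine (EtShriek.extZero (chart i (CommRingCat.of R'))).mapIso ((ab Λ _).mapIso ?_)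
  exact (tr _).mapIso ((EtModW.pull Λ (prA (g.comp ι))).mapIso ((pullId Λ _).app M)) ≪≫
    ((EtModD.tensorBi Λ _).flip.mapIso e).app _

end Groth.Agent.Sga4h.H919.Fam
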