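import Groth.Agent.Sga4h.H919.ConcH

/-!
# Numerical consequences of a long exact sequence `A q → B q → D q → A (q + 1)`

* `Les A B D`: the data of maps and exactness, `A 0 → B 0` injective.
* `Les.zero`, `Les.shift`, `Les.equiv`, `Les.mul`: the consequences used for one-point nearby cycle sequences.
-/

set_option autoImplicit false
universe u v

namespace Groth.Agent.Sga4h.H919.Les3

open Groth.Agent.Sga4h.H919.ConcH

/-- A long exact sequence of abelian groups `A q → B q → D q → A (q + 1)` starting with an injection. -/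
structure Les (A B D : ℕ → Type v) [∀ q, AddCommGroup (A q)] [∀ q, AddCommGroup (B q)]
    [∀ q, AddCommGroup (D q)] where
  α : ∀ q, A q →+ B q
  β : ∀ q, B q →+ D q
  δ : ∀ q, D q →+ A (q + 1)
  exB : ∀ q b, β q b = 0 ↔ ∃ a, α q a = b
  exD : ∀ q d, δ q d = 0 ↔ ∃ b, β q b = d
  exA : ∀ q a, α (q + 1) a = 0 ↔ ∃ d, δ q d = a
  inj : Function.Injective (α 0)

/-- Concentration in one degree, for a sequence of groups. -/
structure GrConc (A : ℕ → Type v) (q₀ c : ℕ) : Prop where
  zero : ∀ q, q ≠ q₀ → Subsingleton (A q)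
  fin : Finite (A q₀)
  card : Nat.card (A q₀) = c

theorem concAt_iff {X : AlgebraicGeometry.Scheme.{u}} {F : EtCoh.Ab X} {q₀ c : ℕ} :
    ConcAt X F q₀ c ↔ GrConc (fun q => EtCoh.H X F q) q₀ c :=
  ⟨fun h => ⟨h.zero, h.fin, h.card⟩, fun h => ⟨h.zero, h.fin, h.card⟩⟩

theorem grConc_one_iff {A : ℕ → Type v} [∀ q, AddCommGroup (A q)] {q₀ : ℕ} :
    GrConc A q₀ 1 ↔ ∀ q, Subsingleton (A q) := by
  constructor
  · intro h q
    by_cases hq : q = q₀
    · subst hq
      exact (Nat.card_eq_one_iff_unique.1 h.card).1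
    · exact h.zero q hq
  · intro h
    have := h q₀
    exact ⟨fun q _ => h q, inferInstance, Nat.card_unique⟩

variable {A B D : ℕ → Type v} [∀ q, AddCommGroup (A q)] [∀ q, AddCommGroup (B q)]
  [∀ q, AddCommGroup (D q)] (L : Les A B D)

include L

theorem Les.inj_of (q : ℕ) (h : ∀ p, p + 1 = q → Subsingleton (D p)) : Function.Injective (L.α q) := by
  cases q with
  | zero => exact L.inj
  | succ q =>
    rw [injective_iff_map_eq_zero]
    intro a ha
    obtain ⟨d, rfl⟩ := (L.exA q a).1 ha
    have := h q rfl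
    rw [Subsingleton.elim d 0, map_zero]

theorem Les.zero (hA : ∀ q, Subsingleton (A q)) (hB : ∀ q, Subsingleton (B q)) (q : ℕ) :
    Subsingleton (D q) := by
  refine subsingleton_of_forall_eq 0 fun d => ?_
  have := hA (q + 1)
  have := hB q
  obtain ⟨b, rfl⟩ := (L.exD q d).1 (Subsingleton.elim _ _)
  rw [Subsingleton.elim b 0, map_zero]

theorem Les.bijective (hD : ∀ q, Subsingleton (D q)) (q : ℕ) : Function.Bijective (L.α q) :=
  ⟨L.inj_of q fun p _ => hD p, fun b => (L.exB q b).1 (Subsingleton.elim _ _)⟩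

/-- If `B` vanishes, `D q ≅ A (q + 1)`. -/
theorem Les.shift (hB : ∀ q, Subsingleton (B q)) {q₀ c : ℕ} (hA : GrConc A (q₀ + 1) c) :
    GrConc D q₀ c := by
  have hbij : ∀ q, Function.Bijective (L.δ q) := fun q => by
    constructor
    · rw [injective_iff_map_eq_zero]
      intro d hd
      obtain ⟨b, rfl⟩ := (L.exD q d).1 hd
      have := hB q
      rw [Subsingleton.elim b 0, map_zero]
    · intro a
      have := hB (q + 1)
      exact (L.exA q a).1 (Subsingleton.elim _ _)
  refine ⟨fun q hq => ?_, ?_, ?_⟩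
  · have := hA.zero (q + 1) (by omega)
    exact (Equiv.ofBijective _ (hbij q)).subsingleton
  · have := hA.fin
    exact Finite.of_equiv _ (Equiv.ofBijective _ (hbij q₀)).symm
  · rw [← hA.card]
    exact Nat.card_congr (Equiv.ofBijective _ (hbij q₀))

/-- If `A` and `D` are concentrated in degree `q₀`, so is `B` and cardinalities multiply. -/
theorem Les.mul {q₀ c d : ℕ} (hA : GrConc A q₀ c) (hD : GrConc D q₀ d) : GrConc B q₀ (c * d) := by
  have hinj : Function.Injective (L.α q₀) := L.inj_of q₀ fun p hp => hD.zero p (by omega)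
  have hsurj : Function.Surjective (L.β q₀) := fun d => by
    have := hA.zero (q₀ + 1) (by omega)
    exact (L.exD q₀ d).1 (Subsingleton.elim _ _)
  have := hA.fin
  have := hD.fin
  refine ⟨fun q hq => ?_, ?_, ?_⟩
  · refine subsingleton_of_forall_eq 0 fun b => ?_
    have := hA.zero q hq
    have := hD.zero q hq
    obtain ⟨a, rfl⟩ := (L.exB q b).1 (Subsingleton.elim _ _)
    rw [Subsingleton.elim a 0, map_zero]
  · exact finite_of_exact (L.α q₀) (L.β q₀) fun b hb => (L.exB q₀ b).1 hb
  · rw [card_eq_mul (L.α q₀) (L.β q₀) hinj hsurj (L.exB q₀), hA.card, hD.card]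

end Groth.Agent.Sga4h.H919.Les3
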