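import Groth.Prelude.Def_EtCore
import Groth.Prelude.Def_EtMod2
import Mathlib.Algebra.Homology.DerivedCategory.Ext.ExactSequences
import Mathlib.CategoryTheory.Abelian.Exact
import Mathlib.GroupTheory.QuotientGroup.Finite

/-!
# Cohomology concentrated in one degree, and unipotent sheaves

* `ConcAt X F q₀ c`: `H^q(X, F) = 0` for `q ≠ q₀` and `H^{q₀}(X, F)` is finite with `c` elements.
* `ConcAt.of_ses`: multiplicativity in short exact sequences.
* `Unip Λ r M`: `M` is a successive extension of `r` copies of the constant sheaf `Λ`.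
* `conc_of_unip`: `Conc` for the image of a unipotent sheaf under an exact functor.
-/

set_option autoImplicit false
universe u

open CategoryTheory CategoryTheory.Limits AlgebraicGeometry Opposite CategoryTheory.Abelian

namespace Groth.Agent.Sga4h.H919.ConcH

/-- The cohomology of `F` is concentrated in degree `q₀`, where it is finite with `c` elements. -/
structure ConcAt (X : Scheme.{u}) (F : EtCoh.Ab X) (q₀ c : ℕ) : Prop where
  zero : ∀ q, q ≠ q₀ → Subsingleton (EtCoh.H X F q)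
  fin : Finite (EtCoh.H X F q₀)
  card : Nat.card (EtCoh.H X F q₀) = c

variable {X : Scheme.{u}}

theorem ConcAt.of_iso {F G : EtCoh.Ab X} (e : F ≅ G) {q₀ c : ℕ} (h : ConcAt X F q₀ c) : ConcAt X G q₀ c := by
  have key : ∀ q, Nonempty (EtCoh.H X F q ≃ EtCoh.H X G q) := fun q =>
    ⟨{ toFun := Sheaf.H.map e.hom q
       invFun := Sheaf.H.map e.inv q
       left_inv := fun x => by rw [← Sheaf.H.map_comp_apply, e.hom_inv_id, Sheaf.H.map_id_apply]
       right_inv := fun x => by rw [← Sheaf.H.map_comp_apply, e.inv_hom_id, Sheaf.H.map_id_apply] }⟩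
  refine ⟨fun q hq => ?_, ?_, ?_⟩
  · obtain ⟨i⟩ := key q
    have := h.zero q hq
    exact i.symm.subsingleton
  · obtain ⟨i⟩ := key q₀
    have := h.fin
    exact Finite.of_equiv _ i
  · obtain ⟨i⟩ := key q₀
    rw [← h.card]
    exact (Nat.card_congr i).symm

/-- A sheaf all of whose cohomology vanishes. -/
theorem conc_one_iff {F : EtCoh.Ab X} {q₀ : ℕ} :
    ConcAt X F q₀ 1 ↔ ∀ q, Subsingleton (EtCoh.H X F q) := by
  constructor
  · intro h q
    by_cases hq : q = q₀
    · subst hq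
      exact (Nat.card_eq_one_iff_unique.1 h.card).1
    · exact h.zero q hq
  · intro h
    have := h q₀
    exact ⟨fun q _ => h q, inferInstance, Nat.card_unique⟩

/-- The cardinality of the middle term of a short exact sequence of groups. -/
theorem card_eq_mul {A B C : Type*} [AddCommGroup A] [AddCommGroup B] [AddCommGroup C] (f : A →+ B)
    (g : B →+ C) (hf : Function.Injective f) (hg : Function.Surjective g)
    (hfg : ∀ b, g b = 0 ↔ ∃ a, f a = b) : Nat.card B = Nat.card A * Nat.card C := by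
  have h1 : f.range = g.ker := by
    ext b
    rw [AddMonoidHom.mem_range, AddMonoidHom.mem_ker, hfg]
  have h2 : Nat.card g.ker = Nat.card A := by
    rw [← h1]
    exact (Nat.card_congr (AddMonoidHom.ofInjective hf).toEquiv).symm
  have h3 : Nat.card (B ⧸ g.ker) = Nat.card C :=
    Nat.card_congr (QuotientAddGroup.quotientKerEquivOfSurjective g hg).toEquiv
  rw [AddSubgroup.card_eq_card_quotient_mul_card_addSubgroup g.ker, h2, h3, mul_comm]

theorem finite_of_exact {A B C : Type*} [AddCommGroup A] [AddCommGroup B] [AddCommGroup C] (f : A →+ B)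
    (g : B →+ C) (hfg : ∀ b, g b = 0 → ∃ a, f a = b) [Finite A] [Finite C] : Finite B := by
  have h1 : Finite g.ker := by
    have h0 : (g.ker : Set B) ⊆ Set.range f := fun b hb => hfg b hb
    exact Set.Finite.subset (Set.finite_range f) h0
  have h2 : Finite (B ⧸ g.ker) := Finite.of_injective _ (QuotientAddGroup.kerLift_injective g)
  exact Finite.of_addSubgroup_quotient g.ker

theorem ConcAt.of_ses {S : ShortComplex (EtCoh.Ab X)} (hS : S.ShortExact) {q₀ c₁ c₃ : ℕ}
    (h₁ : ConcAt X S.X₁ q₀ c₁) (h₃ : ConcAt X S.X₃ q₀ c₃) : ConcAt X S.X₂ q₀ (c₁ * c₃) := by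
  have e2 : ∀ (q : ℕ) (x : EtCoh.H X S.X₂ q), Sheaf.H.map S.g q x = 0 → ∃ y, Sheaf.H.map S.f q y = x :=
    fun q x hx => Ext.covariant_sequence_exact₂ _ hS x hx
  have hinj : Function.Injective (Sheaf.H.map S.f q₀ : EtCoh.H X S.X₁ q₀ →+ EtCoh.H X S.X₂ q₀) := by
    rw [injective_iff_map_eq_zero]
    intro x hx
    rcases q₀ with _ | q
    · have := hS.mono_f
      exact Ext.postcomp_mk₀_injective_of_mono _ S.f (by
        change Sheaf.H.map S.f 0 x = Sheaf.H.map S.f 0 0
        rw [hx, map_zero])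
    · obtain ⟨y, rfl⟩ := Ext.covariant_sequence_exact₁ _ hS x hx rfl
      have := h₃.zero q (by omega)
      rw [Subsingleton.elim y 0, Ext.zero_comp]
  have hsurj : Function.Surjective (Sheaf.H.map S.g q₀ : EtCoh.H X S.X₂ q₀ →+ EtCoh.H X S.X₃ q₀) := by
    intro z
    have := h₁.zero (q₀ + 1) (by omega)
    exact Ext.covariant_sequence_exact₃ _ hS z rfl (Subsingleton.elim _ _)
  have hz : ∀ x, Sheaf.H.map S.g q₀ (Sheaf.H.map S.f q₀ x) = 0 := by
    intro x
    rw [← Sheaf.H.map_comp_apply, S.zero]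
    change ((Sheaf.functorH _ q₀).map (0 : S.X₁ ⟶ S.X₃)).hom x = 0
    rw [Functor.map_zero]
    rfl
  have := h₁.fin
  have := h₃.fin
  refine ⟨fun q hq => ?_, ?_, ?_⟩
  · refine subsingleton_of_forall_eq 0 fun x => ?_
    have := h₁.zero q hq
    have := h₃.zero q hq
    obtain ⟨y, rfl⟩ := e2 q x (Subsingleton.elim _ _)
    rw [Subsingleton.elim y 0, map_zero]
  · exact finite_of_exact _ _ (e2 q₀)
  · rw [card_eq_mul _ _ hinj hsurj, h₁.card, h₃.card]
    intro b
    refine ⟨e2 q₀ b, ?_⟩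
    rintro ⟨a, rfl⟩
    exact hz a

section unip

variable (Λ : Type (u + 1)) [CommRing Λ]

/-- `M` is a successive extension of `r` copies of the constant sheaf `Λ`. -/
def Unip {T : Scheme.{u}} : ℕ → EtModW.Mod Λ T → Prop
  | 0, M => IsZero M
  | r + 1, M => ∃ S : ShortComplex (EtModW.Mod Λ T), S.ShortExact ∧
      Nonempty (S.X₁ ≅ EtModW.constMod Λ T Λ) ∧ Unip r S.X₃ ∧ Nonempty (S.X₂ ≅ M)

variable {Λ}

theorem Unip.of_iso {T : Scheme.{u}} {r : ℕ} {M N : EtModW.Mod Λ T} (h : Unip Λ r M) (e : M ≅ N) :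
    Unip Λ r N := by
  cases r with
  | zero => exact IsZero.of_iso h e.symm
  | succ r =>
    obtain ⟨S, h1, h2, h3, ⟨h4⟩⟩ := h
    exact ⟨S, h1, h2, h3, ⟨h4 ≪≫ e⟩⟩

/-- The dévissage of unipotent sheaves along an exact functor to abelian sheaves. -/
theorem conc_of_unip {T : Scheme.{u}} (Θ : EtModW.Mod Λ T ⥤ EtCoh.Ab X) [Θ.Additive]
    [PreservesFiniteLimits Θ] [PreservesFiniteColimits Θ] {q₀ c : ℕ}
    (h : ConcAt X (Θ.obj (EtModW.constMod Λ T Λ)) q₀ c) (r : ℕ) (M : EtModW.Mod Λ T)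
    (hM : Unip Λ r M) : ConcAt X (Θ.obj M) q₀ (c ^ r) := by
  induction r generalizing M with
  | zero =>
    rw [pow_zero, conc_one_iff]
    intro q
    exact Sheaf.subsingleton_H_of_isZero (Θ.map_isZero hM) q
  | succ r ih =>
    obtain ⟨S, h1, ⟨h2⟩, h3, ⟨h4⟩⟩ := hM
    refine ConcAt.of_iso (Θ.mapIso h4) ?_
    rw [pow_succ, mul_comm]
    exact ConcAt.of_ses (h1.map_of_exact Θ) (h.of_iso (Θ.mapIso h2.symm)) (ih _ h3)

end unip

end Groth.Agent.Sga4h.H919.ConcH
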