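import Groth.Agent.Sga4h.H919.NearMain
import Groth.Agent.Sga4h.H919.P1Geo
import Groth.Agent.Etcore.ShriekUnique
import Groth.Agent.Etrest.VCBaseChange

/-!
# The count for families of twisted sheaves on the affine line

`A` strictly henselian with closed point `s`, `Spec κ = Spec A - {s}`, `K → A`, `U₀ = A^1_K`, `U = A^1_A`,
`X = P^1_A`, `Y = P^1_κ`, `L` invertible on `U`, `F(M) = j_! (p^* M ⊗ L)`.
-/

set_option autoImplicit false
universe u

open CategoryTheory CategoryTheory.Limits AlgebraicGeometry Opposite IsLocalRing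

namespace Groth.Agent.Sga4h.H919.P1Main

open EtCoh ConcH Les3 NearTheta NearMain P1Geo LaTwist LaPoint
  Groth.Agent.EtpbcA.P1Charts Groth.Agent.EtpbcA.LA Groth.Agent.Etrest.StrictLoc
  Groth.Agent.Sga1.UlaSL Groth.Agent.Etrest.ModAb
open Groth.Agent.Dix.ProjProper (mapBase mapBase_toZ mapBase_toBase isPullback_mapBase)

/-- The one-point nearby cycle sequence. -/
def OnePointLes : Prop :=
  ∀ {A : Type u} [CommRing A] [HenselianLocalRing A] [IsSepClosed (ResidueField A)]
    {X Y : Scheme.{u}} (f : X ⟶ Spec (CommRingCat.of A)) [IsProper f] {n : ℕ} (_ : 0 < n)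
    (F : Ab X) (_ : KilledBy n F) (ε : Y ⟶ X) [QuasiCompact ε] [QuasiSeparated ε]
    (x₀ : X) (_ : f x₀ = closedPoint A) {C : Type u} [CommRing C] [IsLocalRing C]
    (τ : Spec (CommRingCat.of C) ⟶ X) (_ : IsStrictLoc τ) (_ : τ (closedPoint C) = x₀)
    {P : Scheme.{u}} {a : P ⟶ Y} {b : P ⟶ Spec (CommRingCat.of C)} (_ : IsPullback a b ε τ)
    (_ : ∀ (k : Type u) [Field k] [IsSepClosed k] (ξ : Spec (CommRingCat.of k) ⟶ X),
      ξ default = x₀ → IsZero ((stalk ξ).obj F))
    (_ : ∀ (k : Type u) [Field k] [IsSepClosed k] (ξ : Spec (CommRingCat.of k) ⟶ X),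
      f (ξ default) = closedPoint A → ξ default ≠ x₀ → LAStalk ε F ξ),
    Nonempty (Les (AH F) (BH ε F) (DH ε a F))

variable {Λ : Type (u + 1)} [CommRing Λ]
  {K : Type u} [Field K] {A : Type u} [CommRing A] [HenselianLocalRing A]
  [IsSepClosed (ResidueField A)] {κ : Type u} [Field κ] (f : K →+* A) (g : A →+* κ)

/-- the map of projective lines over the generic point -/
noncomputable abbrev eps : PP (CommRingCat.of κ) ⟶ PP (CommRingCat.of A) :=
  mapBase 1 (Spec.map (CommRingCat.ofHom g))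

/-- the projection of the affine lines -/
noncomputable abbrev prA : AA (CommRingCat.of A) ⟶ AA (CommRingCat.of K) := amap (CommRingCat.ofHom f)

/-- the projection of the projective lines -/
noncomputable abbrev prP : PP (CommRingCat.of A) ⟶ PP (CommRingCat.of K) :=
  mapBase 1 (Spec.map (CommRingCat.ofHom f))

section points

variable [IsOpenImmersion (Spec.map (CommRingCat.ofHom g))]

instance isOpenImmersion_eps : IsOpenImmersion (eps g) :=
  MorphismProperty.of_isPullback (P := @IsOpenImmersion)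
    (isPullback_mapBase 1 (Spec.map (CommRingCat.ofHom g))).flip inferInstance

instance quasiCompact_eps : QuasiCompact (eps g) :=
  MorphismProperty.of_isPullback (P := @QuasiCompact)
    (isPullback_mapBase 1 (Spec.map (CommRingCat.ofHom g))).flip inferInstance

omit [HenselianLocalRing A] [IsSepClosed (ResidueField A)]
  [IsOpenImmersion (Spec.map (CommRingCat.ofHom g))] in
theorem mem_range_eps (x : PP (CommRingCat.of A))
    (hx : toB (CommRingCat.of A) x ∈ Set.range (Spec.map (CommRingCat.ofHom g))) :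
    x ∈ Set.range (eps g) := by
  obtain ⟨y, hy⟩ := hx
  obtain ⟨w, -, hw⟩ := Scheme.exists_preimage_of_isPullback
    (isPullback_mapBase 1 (Spec.map (CommRingCat.ofHom g))).flip y x hy
  exact ⟨w, hw⟩

end points

omit [IsSepClosed (ResidueField A)] in
/-- There is a point of `P^1_A` over the closed point of `A` and a given point of `P^1_K`. -/
theorem exists_point (x : PP (CommRingCat.of K)) :
    ∃ x₀ : PP (CommRingCat.of A), prP f x₀ = x ∧ toB (CommRingCat.of A) x₀ = closedPoint A := by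
  have h : toB (CommRingCat.of K) x = Spec.map (CommRingCat.ofHom f) (closedPoint A) :=
    Subsingleton.elim (α := PrimeSpectrum K) _ _
  obtain ⟨w, h1, h2⟩ := Scheme.exists_preimage_of_isPullback
    (isPullback_mapBase 1 (Spec.map (CommRingCat.ofHom f))) x (closedPoint A : Spec (CommRingCat.of A)) h
  exact ⟨w, h1, h2⟩

omit [HenselianLocalRing A] [IsSepClosed (ResidueField A)] in
theorem killedBy_ab {n : ℕ} (hn : (n : Λ) = 0) {X : Scheme.{u}} (F : EtModW.Mod Λ X) :
    KilledBy n ((ab Λ X).obj F) := by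
  intro U s
  have h : ∀ t : F.obj.obj (op U), n • t = 0 := fun t => by
    rw [← Nat.cast_smul_eq_nsmul Λ, hn, zero_smul]
  exact h s

/-- The stalk condition at the points of `A^1_A` over the closed point of `A`. -/
def LAat (E : Ab (AA (CommRingCat.of A))) : Prop :=
  ∀ (k : Type u) [Field k] [IsSepClosed k] (ξ : Spec (CommRingCat.of k) ⟶ AA (CommRingCat.of A)),
    pr (CommRingCat.of A) (ξ default) = closedPoint A → LAStalk (amap (CommRingCat.ofHom g)) E ξ

section main

variable [IsOpenImmersion (Spec.map (CommRingCat.ofHom g))]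
  (hg : ∀ z : Spec (CommRingCat.of A), z ≠ closedPoint A →
    z ∈ Set.range (Spec.map (CommRingCat.ofHom g)))
  (i : Fin (1 + 1)) {L : EtModW.Mod Λ (AA (CommRingCat.of A))} (hL : SGA5.IsInvertible L)

include hg hL in
/-- The stalk condition for `F(M)` away from infinity. -/
theorem laStalk_shF (M : EtModW.Mod Λ (AA (CommRingCat.of K)))
    (hM : LAat g ((ab Λ _).obj ((EtModW.pull Λ (prA f)).obj M)))
    (x₀ : PP (CommRingCat.of A)) (hx₀ : toB (CommRingCat.of A) x₀ = closedPoint A)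
    (hx₀' : x₀ ∉ Set.range (chart i (CommRingCat.of A)))
    {k : Type u} [Field k] [IsSepClosed k] (ξ : Spec (CommRingCat.of k) ⟶ PP (CommRingCat.of A))
    (hξ : ξ default ≠ x₀) :
    LAStalk (eps g) ((shF (chart i (CommRingCat.of A)) (prA f) L).obj M) ξ := by
  refine laStalk_of_ne (eps g) (chart i (CommRingCat.of A))
    (isPullback_chart_mapBase (CommRingCat.ofHom g) i).flip _ x₀ (fun x hx => ?_)
    (fun k _ _ ξ' hξ' => ?_) ξ hξ
  · by_contra h
    rw [not_or] at h
    refine hx (eq_of_notMem_range i _ x x₀ h.2 hx₀' ?_)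
    rw [hx₀]
    by_contra h2
    exact h.1 (mem_range_eps g x (hg _ h2))
  · refine (laStalk_tw (amap (CommRingCat.ofHom g)) hL ((EtModW.pull Λ (prA f)).obj M) ξ').2
      (hM k ξ' ?_)
    by_contra h2
    refine hξ' (mem_range_eps g _ (hg _ ?_))
    rw [← Scheme.Hom.comp_apply, chart_toB]
    exact h2

variable (hO4 : OnePointLes.{u}) {n : ℕ} (hn : 0 < n) (hΛ : (n : Λ) = 0)

include hg hL hO4 hn hΛ in
/-- The one-point nearby cycle sequence for `F(M)`. -/
theorem exists_les (M : EtModW.Mod Λ (AA (CommRingCat.of K)))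
    (hM : LAat g ((ab Λ _).obj ((EtModW.pull Λ (prA f)).obj M)))
    (x₀ : PP (CommRingCat.of A)) (hx₀ : toB (CommRingCat.of A) x₀ = closedPoint A)
    (hx₀' : x₀ ∉ Set.range (chart i (CommRingCat.of A)))
    {C : Type u} [CommRing C] [IsLocalRing C] (τ : Spec (CommRingCat.of C) ⟶ PP (CommRingCat.of A))
    (hτ : IsStrictLoc τ) (hτx : τ (closedPoint C) = x₀)
    {P : Scheme.{u}} {a : P ⟶ PP (CommRingCat.of κ)} {b : P ⟶ Spec (CommRingCat.of C)}
    (h : IsPullback a b (eps g) τ) :
    Nonempty (Les (AH ((shF (chart i (CommRingCat.of A)) (prA f) L).obj M))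
      (BH (eps g) ((shF (chart i (CommRingCat.of A)) (prA f) L).obj M))
      (DH (eps g) a ((shF (chart i (CommRingCat.of A)) (prA f) L).obj M))) := by
  have h1 : IsProper (toB (CommRingCat.of A)) := Groth.Agent.Dix.ProjProper.isProper_toBase 1 _
  refine hO4 (toB (CommRingCat.of A)) hn _ ?_ (eps g) x₀ hx₀ τ hτ hτx h ?_ ?_
  · exact Groth.Agent.Sga4B.ShriekTools.killedBy_extZero _ n _ (killedBy_ab hΛ _)
  · intro k _ _ ξ hξ
    exact Groth.Agent.Etcore.ShriekUnique.isZero_stalk_extZero' _ ξ (by rw [hξ]; exact hx₀') _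
  · intro k _ _ ξ _ hξ
    exact laStalk_shF f g hg i hL M hM x₀ hx₀ hx₀' ξ hξ

/-- Near infinity the map `A^1_A ⟶ A^1_K` factors through the punctured strict localization of
`P^1_K`. -/
theorem exists_near {B : Type u} [CommRing B] [IsLocalRing B]
    (σ : Spec (CommRingCat.of B) ⟶ PP (CommRingCat.of K)) (hσ : IsStrictLoc σ)
    (hσx : σ (closedPoint B) ∉ Set.range (chart i (CommRingCat.of K))) :
    ∃ (x₀ : PP (CommRingCat.of A)) (C : Type u) (_ : CommRing C) (_ : IsLocalRing C)
      (τ : Spec (CommRingCat.of C) ⟶ PP (CommRingCat.of A)),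
      toB (CommRingCat.of A) x₀ = closedPoint A ∧ x₀ ∉ Set.range (chart i (CommRingCat.of A)) ∧
      IsStrictLoc τ ∧ τ (closedPoint C) = x₀ ∧
      ∃ h : pullback (pullback.fst (eps g) τ ≫ eps g) (chart i (CommRingCat.of A)) ⟶
          pullback σ (chart i (CommRingCat.of K)),
        pullback.snd (pullback.fst (eps g) τ ≫ eps g) (chart i (CommRingCat.of A)) ≫ prA f =
          h ≫ pullback.snd σ (chart i (CommRingCat.of K)) := by
  obtain ⟨x₀, h1, h2⟩ := exists_point f (σ (closedPoint B))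
  have h3 : x₀ ∉ Set.range (chart i (CommRingCat.of A)) := fun h => by
    rw [← h1] at hσx
    exact hσx ((mapBase_mem_range_iff i (Spec.map (CommRingCat.ofHom f)) x₀).2 h)
  obtain ⟨C, _, _, τ, hτ, hτx⟩ := exists_isStrictLoc (PP (CommRingCat.of A)) x₀
  have := hτ.henselian
  have := hτ.sepClosed
  obtain ⟨g₀, -, hg₀⟩ := Groth.Agent.Etrest.VCBaseChange.exists_map hσ (τ ≫ prP f) (by
    rw [← h1, ← hτx]
    rfl)
  refine ⟨x₀, C, inferInstance, inferInstance, τ, h2, h3, hτ, hτx, pullback.lift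
    (pullback.fst _ _ ≫ pullback.snd (eps g) τ ≫ spm g₀) (pullback.snd _ _ ≫ prA f) ?_,
    (pullback.lift_snd _ _ _).symm⟩
  have e1 : pullback.fst (eps g) τ ≫ eps g = pullback.snd (eps g) τ ≫ τ := pullback.condition
  have e2 := pullback.condition (f := pullback.fst (eps g) τ ≫ eps g)
    (g := chart i (CommRingCat.of A))
  have e3 := chart_mapBase (CommRingCat.ofHom f) i
  rw [Category.assoc, Category.assoc, Category.assoc, hg₀, ← e3, ← Category.assoc _ _ (prP f), ← e1,
    ← Category.assoc _ _ (prP f), e2, Category.assoc]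

include hg hL hO4 hn hΛ in
/-- **Case I.** -/
theorem p1_caseI {B : Type u} [CommRing B] [IsLocalRing B]
    (σ : Spec (CommRingCat.of B) ⟶ PP (CommRingCat.of K)) (hσ : IsStrictLoc σ)
    (hσx : σ (closedPoint B) ∉ Set.range (chart i (CommRingCat.of K)))
    {cΛ cA r : ℕ} (M : EtModW.Mod Λ (AA (CommRingCat.of K)))
    (hΛM : LAat g ((ab Λ _).obj ((EtModW.pull Λ (prA f)).obj (EtModW.constMod Λ _ Λ))))
    (hM : LAat g ((ab Λ _).obj ((EtModW.pull Λ (prA f)).obj M)))
    (hU : Unip Λ r ((EtModW.pull Λ (pullback.snd σ (chart i (CommRingCat.of K)))).obj M))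
    (hA : ConcAt (PP (CommRingCat.of A)) ((shF (chart i (CommRingCat.of A)) (prA f) L).obj
      (EtModW.constMod Λ _ Λ)) 2 cΛ)
    (hB : ∀ q, Subsingleton (H (PP (CommRingCat.of κ)) ((pull (eps g)).obj
      ((shF (chart i (CommRingCat.of A)) (prA f) L).obj (EtModW.constMod Λ _ Λ))) q))
    (hAM : ConcAt (PP (CommRingCat.of A)) ((shF (chart i (CommRingCat.of A)) (prA f) L).obj M) 1 cA) :
    ConcAt (PP (CommRingCat.of κ)) ((pull (eps g)).obj
      ((shF (chart i (CommRingCat.of A)) (prA f) L).obj M)) 1 (cA * cΛ ^ r) := by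
  obtain ⟨x₀, C, _, _, τ, hx₀, hx₀', hτ, hτx, h, w⟩ := exists_near f g i σ hσ hσx
  obtain ⟨LΛ⟩ := exists_les f g hg i hL hO4 hn hΛ (EtModW.constMod Λ _ Λ) hΛM x₀ hx₀ hx₀' τ hτ hτx
    (IsPullback.of_hasPullback (eps g) τ)
  obtain ⟨LM⟩ := exists_les f g hg i hL hO4 hn hΛ M hM x₀ hx₀ hx₀' τ hτ hτx
    (IsPullback.of_hasPullback (eps g) τ)
  exact conc_caseI (eps g) (chart i (CommRingCat.of A)) (prA f) hL (pullback.fst (eps g) τ)
    (pullback.fst _ _) (pullback.snd _ _) (IsPullback.of_hasPullback _ _) h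
    (pullback.snd σ (chart i (CommRingCat.of K))) w M hU LΛ LM hA hB hAM

include hg hL hO4 hn hΛ in
/-- **Case II.** -/
theorem p1_caseII {B : Type u} [CommRing B] [IsLocalRing B]
    (σ : Spec (CommRingCat.of B) ⟶ PP (CommRingCat.of K)) (hσ : IsStrictLoc σ)
    (hσx : σ (closedPoint B) ∉ Set.range (chart i (CommRingCat.of K)))
    {r : ℕ} (M : EtModW.Mod Λ (AA (CommRingCat.of K)))
    (hΛM : LAat g ((ab Λ _).obj ((EtModW.pull Λ (prA f)).obj (EtModW.constMod Λ _ Λ))))
    (hM : LAat g ((ab Λ _).obj ((EtModW.pull Λ (prA f)).obj M)))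
    (hU : Unip Λ r ((EtModW.pull Λ (pullback.snd σ (chart i (CommRingCat.of K)))).obj M))
    (hA : ∀ q, Subsingleton (H (PP (CommRingCat.of A)) ((shF (chart i (CommRingCat.of A)) (prA f)
      L).obj (EtModW.constMod Λ _ Λ)) q))
    (hB : ∀ q, Subsingleton (H (PP (CommRingCat.of κ)) ((pull (eps g)).obj
      ((shF (chart i (CommRingCat.of A)) (prA f) L).obj (EtModW.constMod Λ _ Λ))) q)) (q : ℕ) :
    Nonempty (H (PP (CommRingCat.of A)) ((shF (chart i (CommRingCat.of A)) (prA f) L).obj M) q ≃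
      H (PP (CommRingCat.of κ)) ((pull (eps g)).obj
        ((shF (chart i (CommRingCat.of A)) (prA f) L).obj M)) q) := by
  obtain ⟨x₀, C, _, _, τ, hx₀, hx₀', hτ, hτx, h, w⟩ := exists_near f g i σ hσ hσx
  obtain ⟨LΛ⟩ := exists_les f g hg i hL hO4 hn hΛ (EtModW.constMod Λ _ Λ) hΛM x₀ hx₀ hx₀' τ hτ hτx
    (IsPullback.of_hasPullback (eps g) τ)
  obtain ⟨LM⟩ := exists_les f g hg i hL hO4 hn hΛ M hM x₀ hx₀ hx₀' τ hτ hτx
    (IsPullback.of_hasPullback (eps g) τ)
  exact ⟨Equiv.ofBijective _ (bij_caseII (eps g) (chart i (CommRingCat.of A)) (prA f) hL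
    (pullback.fst (eps g) τ) (pullback.fst _ _) (pullback.snd _ _) (IsPullback.of_hasPullback _ _) h
    (pullback.snd σ (chart i (CommRingCat.of K))) w M hU LΛ LM hA hB q)⟩

end main

end Groth.Agent.Sga4h.H919.P1Main
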