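import Groth.Agent.Sga4h.H919.LaTwist
import Groth.Agent.Sga4h.H919.Les3
import Groth.Agent.Etcore.ShriekExact

/-!
# The count from the one-point nearby cycle sequence

`X ⟵ Y`, `U` open in `X`, `p : U ⟶ U₀`, `L` invertible on `U`; for `M` on `U₀` put
`F(M) = j_! (p^* M ⊗ L)`.  For the base change `z : P ⟶ X` near the bad point, `F(M)|_P` only depends on
the inverse image of `M` on `T ⟶ U₀`, exactly.

* `isInvertible_pull`;
* `conc_near`: `H^q(P, F(M)|_P)` for `M|_T` unipotent of rank `r`;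
* `conc_caseI`: the count for the generic fibre; `bij_caseII`: no change.
-/

set_option autoImplicit false
universe u

open CategoryTheory CategoryTheory.Limits AlgebraicGeometry Opposite IsLocalRing

namespace Groth.Agent.Sga4h.H919.NearMain

open EtCoh ConcH Les3 NearTheta
  Groth.Agent.Etrest.ModAb Groth.Agent.Sga5.H835.TensInv Groth.Agent.Etcore.LPullComp
  Groth.Agent.Sga4h.ModDTensor Groth.Agent.Sga4h.ModDUnit Groth.Agent.Sga5.H835.InvRes
  Groth.Agent.Sga4h.BidEtSh

variable {Λ : Type (u + 1)} [CommRing Λ]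

/-- The inverse image of an invertible sheaf is invertible. -/
theorem isInvertible_pull {X V : Scheme.{u}} (c : V ⟶ X) {L : EtModW.Mod Λ X}
    (hL : SGA5.IsInvertible L) : SGA5.IsInvertible ((EtModW.pull Λ c).obj L) := by
  rw [isInvertible_iff] at hL ⊢
  intro v
  obtain ⟨W, g, hg, w, hw, ⟨i⟩⟩ := hL (c v)
  obtain ⟨z, hz, -⟩ := Scheme.Pullback.exists_preimage_pullback (f := c) (g := g) v w hw.symm
  refine ⟨pullback c g, pullback.fst c g, inferInstance, z, hz, ⟨?_⟩⟩
  exact (pullIsoResM Λ (pullback.fst c g)).symm.app _ ≪≫ (pullComp Λ _ _).app L ≪≫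
    (pullCongr Λ pullback.condition).app L ≪≫ (pullComp Λ _ _).symm.app L ≪≫
    (EtModW.pull Λ (pullback.snd c g)).mapIso ((pullIsoResM Λ g).app L ≪≫ i) ≪≫
    Groth.Agent.Sga4h.ModPoint.pullConst Λ (pullback.snd c g) (ModuleCat.of Λ Λ)

/-- Inverse images of unipotent sheaves. -/
theorem unip_pull {T V : Scheme.{u}} (h : V ⟶ T) {r : ℕ} {M : EtModW.Mod Λ T} (hM : Unip Λ r M) :
    Unip Λ r ((EtModW.pull Λ h).obj M) := by
  induction r generalizing M with
  | zero => exact (EtModW.pull Λ h).map_isZero hM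
  | succ r ih =>
    obtain ⟨S, h1, ⟨h2⟩, h3, ⟨h4⟩⟩ := hM
    exact ⟨S.map (EtModW.pull Λ h), h1.map_of_exact _,
      ⟨(EtModW.pull Λ h).mapIso h2 ≪≫ Groth.Agent.Sga4h.ModPoint.pullConst Λ h (ModuleCat.of Λ Λ)⟩,
      ih h3, ⟨(EtModW.pull Λ h).mapIso h4⟩⟩

section theta

variable {U P V T : Scheme.{u}} {L : EtModW.Mod Λ U} (hL : SGA5.IsInvertible L)
  (jP : V ⟶ P) [IsOpenImmersion jP] (c : V ⟶ U) (h : V ⟶ T)

include hL in
theorem isEquivalence_tr_pull : (tr ((EtModW.pull Λ c).obj L)).IsEquivalence :=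
  isEquivalence_tr (isInvertible_pull c hL)

include hL in
theorem pfl_theta : PreservesFiniteLimits (Theta L jP c h) := by
  have := isEquivalence_tr_pull hL c
  have i1 : PreservesFiniteLimits (EtShriek.extZero jP) :=
    Groth.Agent.Etcore.ShriekExact.preservesFiniteLimits_extZero jP
  infer_instance

include hL in
theorem pfc_theta : PreservesFiniteColimits (Theta L jP c h) := by
  have := isEquivalence_tr_pull hL c
  have i1 : PreservesFiniteColimits (EtShriek.extZero jP) := by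
    have : PreservesColimitsOfSize.{0, 0} (EtShriek.extZero jP) :=
      (EtShriek.extZeroAdj jP).leftAdjoint_preservesColimits
    exact PreservesColimitsOfSize.preservesFiniteColimits _
  infer_instance

include hL in
theorem additive_theta : (Theta L jP c h).Additive := by
  have := pfl_theta hL jP c h
  exact Functor.additive_of_preserves_binary_products _

include hL in
/-- Dévissage of the cohomology near the bad point. -/
theorem conc_near {q₀ c₀ : ℕ}
    (h0 : ConcAt P ((Theta L jP c h).obj (EtModW.constMod Λ T Λ)) q₀ c₀) {r : ℕ}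
    {M : EtModW.Mod Λ T} (hM : Unip Λ r M) : ConcAt P ((Theta L jP c h).obj M) q₀ (c₀ ^ r) := by
  have := pfl_theta hL jP c h
  have := pfc_theta hL jP c h
  have := additive_theta hL jP c h
  exact conc_of_unip _ h0 r M hM

end theta

section main

variable {X Y U U₀ P V T : Scheme.{u}} (ε : Y ⟶ X) (j : U ⟶ X) [IsOpenImmersion j] (p : U ⟶ U₀)
  {L : EtModW.Mod Λ U} (hL : SGA5.IsInvertible L) (a : P ⟶ Y) (jP : V ⟶ P) [IsOpenImmersion jP]
  (c : V ⟶ U) (sq : IsPullback jP c (a ≫ ε) j) (h : V ⟶ T) (t : T ⟶ U₀) (w : c ≫ p = h ≫ t)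

/-- The restriction of `F(M)` near the bad point. -/
noncomputable def nearIso (M : EtModW.Mod Λ U₀) :
    (pull a).obj ((pull ε).obj ((shF j p L).obj M)) ≅
      (Theta L jP c h).obj ((EtModW.pull Λ t).obj M) :=
  (EtCore.pullComp a ε).symm.app _ ≪≫ (thetaIso j p L (a ≫ ε) jP c sq h t w).app M

/-- The three sequences of groups. -/
abbrev AH (F : Ab X) : ℕ → Type (u + 1) := fun q => H X F q

abbrev BH (F : Ab X) : ℕ → Type (u + 1) := fun q => H Y ((pull ε).obj F) q

abbrev DH (F : Ab X) : ℕ → Type (u + 1) := fun q => H P ((pull a).obj ((pull ε).obj F)) q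

include sq w hL in
/-- **Case I**: the constant sheaf has cohomology on `X` in degree `2` only and none on `Y`. -/
theorem conc_caseI {cΛ cA r : ℕ} (M : EtModW.Mod Λ U₀)
    (hM : Unip Λ r ((EtModW.pull Λ t).obj M))
    (LΛ : Les (AH ((shF j p L).obj (EtModW.constMod Λ U₀ Λ)))
      (BH ε ((shF j p L).obj (EtModW.constMod Λ U₀ Λ)))
      (DH ε a ((shF j p L).obj (EtModW.constMod Λ U₀ Λ))))
    (LM : Les (AH ((shF j p L).obj M)) (BH ε ((shF j p L).obj M)) (DH ε a ((shF j p L).obj M)))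
    (hA : ConcAt X ((shF j p L).obj (EtModW.constMod Λ U₀ Λ)) 2 cΛ)
    (hB : ∀ q, Subsingleton (H Y ((pull ε).obj ((shF j p L).obj (EtModW.constMod Λ U₀ Λ))) q))
    (hAM : ConcAt X ((shF j p L).obj M) 1 cA) :
    ConcAt Y ((pull ε).obj ((shF j p L).obj M)) 1 (cA * cΛ ^ r) := by
  have h1 : ConcAt P ((pull a).obj ((pull ε).obj ((shF j p L).obj (EtModW.constMod Λ U₀ Λ)))) 1 cΛ :=
    concAt_iff.2 (LΛ.shift hB (concAt_iff.1 hA))
  have h2 : ConcAt P ((Theta L jP c h).obj (EtModW.constMod Λ T Λ)) 1 cΛ :=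
    h1.of_iso (nearIso ε j p a jP c sq h t w _ ≪≫ (Theta L jP c h).mapIso
      (Groth.Agent.Sga4h.ModPoint.pullConst Λ t (ModuleCat.of Λ Λ)))
  have h3 := (conc_near hL jP c h h2 hM).of_iso (nearIso ε j p a jP c sq h t w M).symm
  exact concAt_iff.2 (LM.mul (concAt_iff.1 hAM) (concAt_iff.1 h3))

include sq w hL in
/-- **Case II**: the constant sheaf has no cohomology on `X` nor on `Y`. -/
theorem bij_caseII {r : ℕ} (M : EtModW.Mod Λ U₀)
    (hM : Unip Λ r ((EtModW.pull Λ t).obj M))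
    (LΛ : Les (AH ((shF j p L).obj (EtModW.constMod Λ U₀ Λ)))
      (BH ε ((shF j p L).obj (EtModW.constMod Λ U₀ Λ)))
      (DH ε a ((shF j p L).obj (EtModW.constMod Λ U₀ Λ))))
    (LM : Les (AH ((shF j p L).obj M)) (BH ε ((shF j p L).obj M)) (DH ε a ((shF j p L).obj M)))
    (hA : ∀ q, Subsingleton (H X ((shF j p L).obj (EtModW.constMod Λ U₀ Λ)) q))
    (hB : ∀ q, Subsingleton (H Y ((pull ε).obj ((shF j p L).obj (EtModW.constMod Λ U₀ Λ))) q))
    (q : ℕ) : Function.Bijective (LM.α q) := by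
  have h1 : ConcAt P ((pull a).obj ((pull ε).obj ((shF j p L).obj (EtModW.constMod Λ U₀ Λ)))) 0 1 :=
    conc_one_iff.2 (LΛ.zero hA hB)
  have h2 : ConcAt P ((Theta L jP c h).obj (EtModW.constMod Λ T Λ)) 0 1 :=
    h1.of_iso (nearIso ε j p a jP c sq h t w _ ≪≫ (Theta L jP c h).mapIso
      (Groth.Agent.Sga4h.ModPoint.pullConst Λ t (ModuleCat.of Λ Λ)))
  have h3 := (conc_near hL jP c h h2 hM).of_iso (nearIso ε j p a jP c sq h t w M).symm
  rw [one_pow] at h3
  exact LM.bijective (fun q => conc_one_iff.1 h3 q) q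

end main

end Groth.Agent.Sga4h.H919.NearMain
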