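import Groth.Agent.Sga4h.H919.Fam

/-!
# The two cases of the count for the sheaves `Fa`
-/

set_option autoImplicit false
universe u

open CategoryTheory CategoryTheory.Limits AlgebraicGeometry Opposite IsLocalRing

namespace Groth.Agent.Sga4h.H919.Cases

open EtCoh ConcH Les3 NearTheta NearMain P1Geo LaTwist LaPoint P1Main Fam
  Groth.Agent.EtpbcA.P1Charts Groth.Agent.EtpbcA.LA Groth.Agent.Etrest.StrictLoc
  Groth.Agent.Sga1.UlaSL Groth.Agent.Sga1.UlaRes Groth.Agent.Etrest.ModAb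

theorem equivH_of_iso {X : Scheme.{u}} {F G : Ab X} (e : F ≅ G) (q : ℕ) :
    Nonempty (H X F q ≃ H X G q) :=
  ⟨Equiv.ofBijective _ (postcomp_bijective F G e.hom q)⟩

variable {k : Type u} [Field k] [Fintype k] {Λ : Type (u + 1)} [CommRing Λ] (S : ASys k Λ)
  {K : Type u} [Field K] (ρ : k →+* K) (i : Fin (1 + 1)) {n : ℕ} (hn : 0 < n) (hΛ : (n : Λ) = 0)
  (hO4 : OnePointLes.{u})
  {A : Type u} [CommRing A] [HenselianLocalRing A] [IsSepClosed (ResidueField A)]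
  {κ : Type u} [Field κ] (ι : K →+* A) (g : A →+* κ) [IsOpenImmersion (Spec.map (CommRingCat.ofHom g))]
  (hg : ∀ z : Spec (CommRingCat.of A), z ≠ closedPoint A →
    z ∈ Set.range (Spec.map (CommRingCat.ofHom g)))
  (a : A) {B : Type u} [CommRing B] [IsLocalRing B]
  (σ : Spec (CommRingCat.of B) ⟶ PP (CommRingCat.of K)) (hσ : IsStrictLoc σ)
  (hσx : σ (closedPoint B) ∉ Set.range (chart i (CommRingCat.of K)))
  (M : EtModW.Mod Λ (AA (CommRingCat.of K)))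
  (hΛM : LAat g ((ab Λ _).obj ((EtModW.pull Λ (prA ι)).obj (EtModW.constMod Λ _ Λ))))
  (hM : LAat g ((ab Λ _).obj ((EtModW.pull Λ (prA ι)).obj M)))
  {r : ℕ} (hU : Unip Λ r ((EtModW.pull Λ (pullback.snd σ (chart i (CommRingCat.of K)))).obj M))

include hn hΛ hO4 hg hσ hσx hΛM hM hU in
theorem fa_caseI {cΛ cA : ℕ}
    (hA : ConcAt (PP (CommRingCat.of A)) (Fa S ρ i ι a (EtModW.constMod Λ _ Λ)) 2 cΛ)
    (hB : ∀ q, Subsingleton (H (PP (CommRingCat.of κ))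
      (Fa S ρ i (g.comp ι) (g a) (EtModW.constMod Λ _ Λ)) q))
    (hAM : ConcAt (PP (CommRingCat.of A)) (Fa S ρ i ι a M) 1 cA) :
    ConcAt (PP (CommRingCat.of κ)) (Fa S ρ i (g.comp ι) (g a) M) 1 (cA * cΛ ^ r) := by
  obtain ⟨e⟩ := bcFa S ρ i ι a g M
  obtain ⟨e0⟩ := bcFa S ρ i ι a g (EtModW.constMod Λ _ Λ)
  refine ConcAt.of_iso e (p1_caseI ι g hg i (S.inv _ _) hO4 hn hΛ σ hσ hσx M hΛM hM hU hA ?_ hAM)
  intro q
  obtain ⟨e1⟩ := equivH_of_iso e0 q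
  have := hB q
  exact e1.subsingleton

include hn hΛ hO4 hg hσ hσx hΛM hM hU in
theorem fa_caseII
    (hA : ∀ q, Subsingleton (H (PP (CommRingCat.of A)) (Fa S ρ i ι a (EtModW.constMod Λ _ Λ)) q))
    (hB : ∀ q, Subsingleton (H (PP (CommRingCat.of κ))
      (Fa S ρ i (g.comp ι) (g a) (EtModW.constMod Λ _ Λ)) q)) (q : ℕ) :
    Nonempty (H (PP (CommRingCat.of A)) (Fa S ρ i ι a M) q ≃
      H (PP (CommRingCat.of κ)) (Fa S ρ i (g.comp ι) (g a) M) q) := by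
  obtain ⟨e⟩ := bcFa S ρ i ι a g M
  obtain ⟨e0⟩ := bcFa S ρ i ι a g (EtModW.constMod Λ _ Λ)
  obtain ⟨e2⟩ := p1_caseII ι g hg i (S.inv _ _) hO4 hn hΛ σ hσ hσx M hΛM hM hU hA (fun q => by
    obtain ⟨e1⟩ := equivH_of_iso e0 q
    have := hB q
    exact e1.subsingleton) q
  obtain ⟨e3⟩ := equivH_of_iso e q
  exact ⟨e2.trans e3⟩

end Groth.Agent.Sga4h.H919.Cases
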