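import Groth.Agent.Sga4h.H919.Fam

/-!
# The sheaves `Fa` for the constant sheaf
-/

set_option autoImplicit false
universe u

open CategoryTheory CategoryTheory.Limits AlgebraicGeometry Opposite IsLocalRing

namespace Groth.Agent.Sga4h.H919.FaConst

open EtCoh ConcH NearTheta NearMain P1Geo LaTwist P1Main Fam
  Groth.Agent.EtpbcA.P1Charts Groth.Agent.Etrest.ModAb Groth.Agent.Etcore.LPullComp
  Groth.Agent.Sga5.H835.TensInv Groth.Agent.Sga4h.ModDTensor Groth.Agent.Sga4h.ModDUnit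

variable {k : Type u} [Field k] [Fintype k] {Λ : Type (u + 1)} [CommRing Λ] (S : ASys k Λ)
  {K : Type u} [Field K] (ρ : k →+* K) (i : Fin (1 + 1))

/-- `Fa` of the constant sheaf. -/
theorem nonempty_Fa_const {R : Type u} [CommRing R] (ι : K →+* R) (a : R) :
    Nonempty (Fa S ρ i ι a (EtModW.constMod Λ _ Λ) ≅
      (EtShriek.extZero (chart i (CommRingCat.of R))).obj ((ab Λ _).obj (Lsh S ρ ι a))) := by
  refine ⟨(EtShriek.extZero (chart i (CommRingCat.of R))).mapIso ((ab Λ _).mapIso ?_)⟩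
  exact (tr (Lsh S ρ ι a)).mapIso (Groth.Agent.Sga4h.ModPoint.pullConst Λ (prA ι) (ModuleCat.of Λ Λ)) ≪≫
    (unitIso Λ _).app (Lsh S ρ ι a)

/-- `Fa` of the constant sheaf at `a = 0`. -/
theorem nonempty_Fa_const_zero {R : Type u} [CommRing R] (ι : K →+* R) :
    Nonempty (Fa S ρ i ι 0 (EtModW.constMod Λ _ Λ) ≅
      (EtShriek.extZero (chart i (CommRingCat.of R))).obj ((ab Λ _).obj
        (EtModW.constMod Λ _ Λ))) := by
  obtain ⟨e⟩ := nonempty_Fa_const S ρ i ι 0
  obtain ⟨e'⟩ := S.zero (((Polynomial.C : R →+* Polynomial R).comp ι).comp ρ)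
  have h : Lsh S ρ ι 0 ≅ EtModW.constMod Λ _ Λ := by
    have h1 : (Polynomial.C (0 : R) * Polynomial.X : Polynomial R) = 0 := by
      rw [Polynomial.C_0, zero_mul]
    unfold Lsh
    rw [h1]
    exact e'
  exact ⟨e ≪≫ (EtShriek.extZero (chart i (CommRingCat.of R))).mapIso ((ab Λ _).mapIso h)⟩

end Groth.Agent.Sga4h.H919.FaConst
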