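import Groth.Agent.Sga4h.H919.Fam
import Groth.Agent.EtpbcB.HpullTors

/-!
# Proper base change and change of the geometric point for the sheaves `Fa`
-/

set_option autoImplicit false
universe u

open CategoryTheory CategoryTheory.Limits AlgebraicGeometry Opposite IsLocalRing

namespace Groth.Agent.Sga4h.H919.FaPbc

open EtCoh ConcH Les3 NearTheta NearMain P1Geo LaTwist LaPoint P1Main Fam
  Groth.Agent.EtpbcA.P1Charts Groth.Agent.EtpbcA.LA Groth.Agent.Etrest.StrictLoc
  Groth.Agent.Sga1.UlaSL Groth.Agent.Sga1.UlaRes Groth.Agent.Etrest.ModAb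
open Groth.Agent.Dix.ProjProper (mapBase mapBase_toZ mapBase_toBase isPullback_mapBase)

theorem equivH_of_iso {X : Scheme.{u}} {F G : Ab X} (e : F ≅ G) (q : ℕ) :
    Nonempty (H X F q ≃ H X G q) :=
  ⟨Equiv.ofBijective _ (postcomp_bijective F G e.hom q)⟩

theorem nonempty_equiv_mapBase {A : Type u} [CommRing A] [HenselianLocalRing A]
    [IsSepClosed (ResidueField A)] {Ω : Type u} [Field Ω] [IsSepClosed Ω]
    (φ : A →+* Ω) (hφ : RingHom.ker φ = maximalIdeal A) {n : ℕ} (hn : 0 < n)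
    (F : Ab (PP (CommRingCat.of A))) (hF : KilledBy n F) (q : ℕ) :
    Nonempty (H (PP (CommRingCat.of A)) F q ≃
      H (PP (CommRingCat.of Ω)) ((pull (mapBase 1 (Spec.map (CommRingCat.ofHom φ)))).obj F) q) := by
  have h1 : IsProper (toB (CommRingCat.of A)) := Groth.Agent.Dix.ProjProper.isProper_toBase 1 _
  have h2 := Groth.Agent.EtpbcB.HpullTors.bijective_Hpull_fibre φ hφ (toB (CommRingCat.of A)) F
    (Groth.Agent.EtpbcB.HpullProper.isTorsion_of_killedBy hn hF) q
  let e := (isPullback_mapBase 1 (Spec.map (CommRingCat.ofHom φ))).isoPullback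
  have he : e.hom ≫ pullback.fst (toB (CommRingCat.of A)) (Spec.map (CommRingCat.ofHom φ)) =
      mapBase 1 (Spec.map (CommRingCat.ofHom φ)) :=
    (isPullback_mapBase 1 (Spec.map (CommRingCat.ofHom φ))).isoPullback_hom_fst
  have h3 := Groth.Agent.Etrest.IsoInv.bijective_Hpull e.hom
    ((pull (pullback.fst (toB (CommRingCat.of A)) (Spec.map (CommRingCat.ofHom φ)))).obj F) q
  obtain ⟨e4⟩ := equivH_of_iso ((EtCore.pullComp e.hom _).symm.app F ≪≫
    (EtCore.pullCongr he).app F) q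
  exact ⟨(Equiv.ofBijective _ h2).trans ((Equiv.ofBijective _ h3).trans e4)⟩

variable {k : Type u} [Field k] [Fintype k] {Λ : Type (u + 1)} [CommRing Λ] (S : ASys k Λ)
  {K : Type u} [Field K] (ρ : k →+* K) (i : Fin (1 + 1)) {n : ℕ} (hn : 0 < n) (hΛ : (n : Λ) = 0)

include hΛ in
theorem killedBy_Fa {R : Type u} [CommRing R] (ι : K →+* R) (a : R)
    (M : EtModW.Mod Λ (AA (CommRingCat.of K))) : KilledBy n (Fa S ρ i ι a M) :=
  Groth.Agent.Sga4B.ShriekTools.killedBy_extZero _ n _ (killedBy_ab hΛ _)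

include hn hΛ in
theorem equiv_Fa_closed {A : Type u} [CommRing A] [HenselianLocalRing A]
    [IsSepClosed (ResidueField A)] {Ω : Type u} [Field Ω] [IsSepClosed Ω]
    (φ : A →+* Ω) (hφ : RingHom.ker φ = maximalIdeal A) (ι : K →+* A) (a : A)
    (M : EtModW.Mod Λ (AA (CommRingCat.of K))) (q : ℕ) :
    Nonempty (H (PP (CommRingCat.of A)) (Fa S ρ i ι a M) q ≃
      H (PP (CommRingCat.of Ω)) (Fa S ρ i (φ.comp ι) (φ a) M) q) := by
  obtain ⟨e1⟩ := nonempty_equiv_mapBase φ hφ hn _ (killedBy_Fa S ρ i hΛ ι a M) q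
  obtain ⟨e2⟩ := bcFa S ρ i ι a φ M
  obtain ⟨e3⟩ := equivH_of_iso e2 q
  exact ⟨e1.trans e3⟩

include hn hΛ in
theorem equiv_Fa_field {Ω Ω' : Type u} [Field Ω] [IsSepClosed Ω] [Field Ω'] [IsSepClosed Ω']
    (φ : Ω →+* Ω') (ι : K →+* Ω) (a : Ω) (M : EtModW.Mod Λ (AA (CommRingCat.of K))) (q : ℕ) :
    Nonempty (H (PP (CommRingCat.of Ω)) (Fa S ρ i ι a M) q ≃
      H (PP (CommRingCat.of Ω')) (Fa S ρ i (φ.comp ι) (φ a) M) q) := by
  have h1 : IsSepClosed (IsLocalRing.ResidueField Ω) :=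
    Groth.Agent.Etrest.SHPoint.isSepClosed_residueField Ω
  have h2 : RingHom.ker φ = IsLocalRing.maximalIdeal Ω := by
    rw [(RingHom.injective_iff_ker_eq_bot φ).1 φ.injective, IsLocalRing.maximalIdeal_eq_bot]
  exact equiv_Fa_closed S ρ i hn hΛ φ h2 ι a M q

include hn hΛ in
/-- The cohomology of `Fa` at two geometric points with the same image in `A^1_K`. -/
theorem equiv_Fa_common {Ω Ω' : Type u} [Field Ω] [IsSepClosed Ω] [Field Ω'] [IsSepClosed Ω']
    {κ : Type u} [Field κ] (α : κ →+* Ω) (α' : κ →+* Ω') (ι : K →+* κ) (a : κ)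
    (M : EtModW.Mod Λ (AA (CommRingCat.of K))) (q : ℕ) :
    Nonempty (H (PP (CommRingCat.of Ω)) (Fa S ρ i (α.comp ι) (α a) M) q ≃
      H (PP (CommRingCat.of Ω')) (Fa S ρ i (α'.comp ι) (α' a) M) q) := by
  obtain ⟨Ω'', _, _, j, j', h⟩ := Groth.Agent.EtpbcB.GeomPointIndep.exists_common_ext α α'
  obtain ⟨e1⟩ := equiv_Fa_field S ρ i hn hΛ j (α.comp ι) (α a) M q
  obtain ⟨e2⟩ := equiv_Fa_field S ρ i hn hΛ j' (α'.comp ι) (α' a) M q
  have h1 : j.comp (α.comp ι) = j'.comp (α'.comp ι) := by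
    rw [← RingHom.comp_assoc, h, RingHom.comp_assoc]
  have h2 : j (α a) = j' (α' a) := RingHom.congr_fun h a
  rw [h1, h2] at e1
  exact ⟨e1.trans e2.symm⟩

include hn hΛ in
/-- The cohomology of `Fa` at two geometric points over the generic point of `A^1_K`. -/
theorem equiv_Fa_generic {Ω Ω' : Type u} [Field Ω] [IsSepClosed Ω] [Field Ω'] [IsSepClosed Ω']
    (ι : K →+* Ω) (a : Ω) (ha : Function.Injective (Polynomial.eval₂RingHom ι a))
    (ι' : K →+* Ω') (a' : Ω') (ha' : Function.Injective (Polynomial.eval₂RingHom ι' a'))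
    (M : EtModW.Mod Λ (AA (CommRingCat.of K))) (q : ℕ) :
    Nonempty (H (PP (CommRingCat.of Ω)) (Fa S ρ i ι a M) q ≃
      H (PP (CommRingCat.of Ω')) (Fa S ρ i ι' a' M) q) := by
  have h := equiv_Fa_common S ρ i hn hΛ (κ := FractionRing (Polynomial K))
    (IsFractionRing.lift ha : FractionRing (Polynomial K) →+* Ω)
    (IsFractionRing.lift ha' : FractionRing (Polynomial K) →+* Ω')
    ((algebraMap (Polynomial K) (FractionRing (Polynomial K))).comp Polynomial.C)
    (algebraMap (Polynomial K) (FractionRing (Polynomial K)) Polynomial.X) M q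
  have e1 : (IsFractionRing.lift ha : FractionRing (Polynomial K) →+* Ω).comp
      ((algebraMap (Polynomial K) (FractionRing (Polynomial K))).comp Polynomial.C) = ι := by
    ext x
    simp
  have e1' : (IsFractionRing.lift ha' : FractionRing (Polynomial K) →+* Ω').comp
      ((algebraMap (Polynomial K) (FractionRing (Polynomial K))).comp Polynomial.C) = ι' := by
    ext x
    simp
  have e2 : (IsFractionRing.lift ha : FractionRing (Polynomial K) →+* Ω)
      (algebraMap (Polynomial K) (FractionRing (Polynomial K)) Polynomial.X) = a := by simp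
  have e2' : (IsFractionRing.lift ha' : FractionRing (Polynomial K) →+* Ω')
      (algebraMap (Polynomial K) (FractionRing (Polynomial K)) Polynomial.X) = a' := by simp
  rw [e1, e1', e2, e2'] at h
  exact h

end Groth.Agent.Sga4h.H919.FaPbc
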