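import Groth.Agent.Sga4h.H919.IndStep
import Groth.Agent.Sga4h.H276.A2

/-!
# The induction

`QQ S ρ m` and the unipotence at `0` of `KK S ρ m` for all `m`.
-/

set_option autoImplicit false
universe u

open CategoryTheory CategoryTheory.Limits AlgebraicGeometry Opposite IsLocalRing
open scoped Polynomial LaurentPolynomial

namespace Groth.Agent.Sga4h.H919.Ind

open EtCoh ConcH P1Geo P1Main NearTheta Fam Step StepTower IndBasic IndPoint IndStep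
  Groth.Agent.EtpbcA.P1Charts Groth.Agent.Etrest.StrictLoc
  Groth.Agent.Etrest.ModAb Groth.Agent.Sga4h.H980.Fib Groth.Agent.Sga4h.H980.Geo2
  Groth.Agent.Sga4h.H276.Cp Groth.Agent.Sga4h.H276.Exc Groth.Agent.Sga4h.H545.InfGeo
  Groth.Agent.Sga4h.H545.InfUnip Groth.Agent.Sga4h.H299.Rs Groth.Agent.Sga4h.ModRestr
  Groth.Agent.Sga4h.H299.ExtBC Groth.Agent.Sga1.UlaSL Groth.Agent.Etcore.LPullComp

variable {k : Type u} [Field k] [Fintype k]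

section trans

variable {Λ : Type (u + 1)} [CommRing Λ] (S : ASys k Λ) {K : Type u} [Field K] (ρ : k →+* K)

theorem nonempty_sg (n : ℕ) : Nonempty (H276.A2.sg S ρ n ≅ sh0 S ρ n) :=
  nonempty_sh_congr S (by rw [piL_comp_C]) rfl

theorem nonempty_KK (m : ℕ) : Nonempty (H276.A2.KK S ρ (m + 1) m ≅ KK S ρ m) := by
  obtain ⟨e⟩ := nonempty_sg S ρ (m + 1)
  exact ⟨(R Λ (piS K (m + 1)) m).mapIso e⟩

theorem nonempty_GG (m : ℕ) : Nonempty (H276.A1.Gn (H276.A2.KK S ρ (m + 1) m) ≅ GG S ρ m) := by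
  obtain ⟨e⟩ := nonempty_KK S ρ m
  exact ⟨(ext Λ (oL K)).mapIso ((EtModW.pull Λ (invL K)).mapIso e)⟩

variable {n : ℕ} (hn0 : 0 < n) (hn : (n : Λ) = 0)

include hn0 hn in
/-- The hypothesis `A1T`. -/
theorem a1T (i : Fin (1 + 1)) {m : ℕ} (hQ : QQ S ρ m) : A1T S ρ i m := by
  have hd : ∀ q, q ≠ m → IsZero (H276.A2.KK S ρ (m + 1) q) := by
    intro q hq
    obtain ⟨e⟩ := nonempty_sg S ρ (m + 1)
    exact (isZero_rows S hn0 hn ρ hQ q hq).of_iso ((R Λ (piS K (m + 1)) q).mapIso e)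
  intro κ _ ι a
  refine ⟨fun q => ?_, fun q hq => H276.A2.isZero_st S hn0 hn ρ ι a hd q hq⟩
  obtain ⟨e⟩ := H276.A2.nonempty_stA S hn0 hn ρ ι a hd i q
  obtain ⟨e'⟩ := nonempty_GG S ρ m
  exact ⟨e ≪≫ (EtCoh.Rpush (toB (CommRingCat.of κ)) q).mapIso
    ((shF (chart i (CommRingCat.of κ)) (prA ι) (Lsh S ρ ι a)).mapIso e')⟩

end trans

section main

variable {Λ : Type (u + 1)} [Field Λ] [Finite Λ] {ℓ : ℕ}
  (hℓ : ℓ.Prime) [CharP Λ ℓ] (S : ASys k Λ)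
  {K : Type u} [Field K] [IsAlgClosed K] (ρ : k →+* K) (i : Fin (1 + 1)) (hℓK : (ℓ : K) ≠ 0)
  (hO4 : OnePointLes.{u})
  (hΛc : EtPBC.IsConstructible ((ab Λ (AA (CommRingCat.of K))).obj (EtModW.constMod Λ _ Λ)))
  (hV1 : ∀ (Ω : Type u) [Field Ω] [IsSepClosed Ω] (ι : K →+* Ω) (a : Ω), a ≠ 0 → ∀ q,
    Subsingleton (H (PP (CommRingCat.of Ω)) (Fa S ρ i ι a (EtModW.constMod Λ _ Λ)) q))
  (hV2 : ConcAt (PP (CommRingCat.of K)) (Fa S ρ i (RingHom.id K) 0 (EtModW.constMod Λ _ Λ)) 2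
    (Nat.card Λ))
  {V : Type u} [CommRing V] [IsDomain V] [IsDiscreteValuationRing V] [HenselianLocalRing V]
  [Algebra K V] [Algebra K[X] V] [IsScalarTower K K[X] V]
  (hVs : EtCoh.IsStrictlyHenselianLocalRing V) (hloc : IsStrictLoc (spm (algebraMap K[X] V)))
  (hinj : Function.Injective (algebraMap K[X] V))
  (hirr : Irreducible (algebraMap K[X] V (Polynomial.X - Polynomial.C 0)))
  (hbij : Function.Bijective ((residue V).comp (algebraMap K V)))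
  {F : Type u} [Field F] [Algebra V F] [IsFractionRing V F] (θ : K[T;T⁻¹] →+* F)
  (hθ : θ.comp Polynomial.toLaurent = (algebraMap V F).comp (algebraMap K[X] V))
  (hA0 : ∀ n, Cc (strT K n) (sh0 S ρ n) n (Nat.card Λ))
  (hGc : ∀ m, EtPBC.IsConstructible ((ab Λ (AA (CommRingCat.of K))).obj (GG S ρ m)))
  (hQ0 : QQ S ρ 0) (hU0 : UU S ρ θ 0)

include hℓ hℓK hO4 hΛc hV1 hV2 hVs hloc hinj hirr hbij hθ hA0 hGc hQ0 hU0 in
theorem qq_uu (m : ℕ) : QQ S ρ m ∧ UU S ρ θ m := by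
  have hΛ : (ℓ : Λ) = 0 := CharP.cast_eq_zero Λ ℓ
  induction m with
  | zero => exact ⟨hQ0, hU0⟩
  | succ m ih =>
    have hA1 := a1T S ρ hℓ.pos hΛ i ih.1
    exact ⟨qq_succ hℓ S ρ i hℓK hO4 hΛc hV1 hV2 hloc hirr θ hθ ih.2 hA1 (hA0 _) (hGc m),
      uu_succ hℓ S ρ i hℓK hO4 hΛc hV1 hV2 hVs hloc hinj hirr hbij θ hθ ih.2 hA1 (hA0 _) (hGc m)⟩

end main

end Groth.Agent.Sga4h.H919.Ind
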