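import Groth.Agent.Sga4h.H919.Fam
import Groth.Agent.Sga4h.H545.InfGeo
import Groth.Agent.Sga4h.H980.Geo2
import Groth.Agent.Sga4h.H276.Exc
import Groth.Agent.Sga4h.LFinPull
import Mathlib.RingTheory.Localization.InvSubmonoid

/-!
# The direct images of the additive sheaves on tori

`shT S ρ n a = sh (∑ x_i + a / ∏ x_i)` and `sh0 S ρ n = sh (∑ x_i)` on `G_m^n`; `QQ`: the cohomology of `shT` is
concentrated in degree `n`, of order `|Λ| ^ (n + 1)`, for `a ≠ 0`; `KK m = R^m π_! (sh0)` for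
`π = ∏ x_i : G_m^{m+1} ⟶ G_m`.
-/

set_option autoImplicit false
universe u

open CategoryTheory CategoryTheory.Limits AlgebraicGeometry Opposite IsLocalRing
open scoped Polynomial LaurentPolynomial

namespace Groth.Agent.Sga4h.H919.IndBasic

open ConcH P1Geo Fam Groth.Agent.EtpbcA.P1Charts Groth.Agent.Etrest.StrictLoc
  Groth.Agent.Etrest.ModAb Groth.Agent.Sga4h.H980.Fib Groth.Agent.Sga4h.H980.Geo2
  Groth.Agent.Sga4h.H276.Cp Groth.Agent.Sga4h.H276.Exc Groth.Agent.Sga4h.H545.InfGeo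
  Groth.Agent.Sga4h.H299.Rs Groth.Agent.Sga4h.ModRestr Groth.Agent.Sga4h.H299.ExtBC

/-- the structure morphism of the torus -/
noncomputable abbrev strT (B : Type u) [CommRing B] (n : ℕ) :
    Spec (CommRingCat.of (TK B n)) ⟶ Spec (CommRingCat.of B) :=
  Spec.map (CommRingCat.ofHom (algebraMap B (TK B n)))

/-- the product of the coordinates -/
noncomputable abbrev piS (B : Type u) [CommRing B] (n : ℕ) :
    Spec (CommRingCat.of (TK B n)) ⟶ Spec (CommRingCat.of B[T;T⁻¹]) :=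
  Spec.map (CommRingCat.ofHom (piL B n))

instance finiteType_TK (B : Type u) [CommRing B] (n : ℕ) : Algebra.FiniteType B (TK B n) :=
  Algebra.FiniteType.trans (S := MvPolynomial (Fin n) B) inferInstance
    (IsLocalization.finiteType_of_monoid_fg (Submonoid.powers (pr B n)) _)

instance lft_strT (B : Type u) [CommRing B] (n : ℕ) : LocallyOfFiniteType (strT B n) := by
  rw [HasRingHomProperty.Spec_iff (P := @LocallyOfFiniteType)]
  exact RingHom.finiteType_algebraMap.2 (finiteType_TK B n)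

theorem piS_strL (B : Type u) [CommRing B] (n : ℕ) :
    piS B n ≫ Spec.map (CommRingCat.ofHom (LaurentPolynomial.C : B →+* B[T;T⁻¹])) = strT B n := by
  rw [← Spec.map_comp, ← CommRingCat.ofHom_comp, piL_comp_C]

instance lft_piS (B : Type u) [CommRing B] (n : ℕ) : LocallyOfFiniteType (piS B n) := by
  have : LocallyOfFiniteType (piS B n ≫
      Spec.map (CommRingCat.ofHom (LaurentPolynomial.C : B →+* B[T;T⁻¹]))) := by
    rw [piS_strL]
    infer_instance
  exact locallyOfFiniteType_of_comp (piS B n)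
    (Spec.map (CommRingCat.ofHom (LaurentPolynomial.C : B →+* B[T;T⁻¹])))

variable {k : Type u} [Field k] [Fintype k] {Λ : Type (u + 1)} [CommRing Λ] (S : ASys k Λ)

theorem nonempty_pull_sh {R R' : Type u} [CommRing R] [CommRing R'] {ρ : k →+* R} {f : R}
    (φ : R →+* R') {ρ' : k →+* R'} {f' : R'} (h1 : φ.comp ρ = ρ') (h2 : φ f = f') :
    Nonempty ((EtModW.pull Λ (Spec.map (CommRingCat.ofHom φ))).obj (S.sh ρ f) ≅ S.sh ρ' f') := by
  subst h1 h2
  exact S.pull ρ f φ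

theorem nonempty_sh_congr {R : Type u} [CommRing R] {ρ ρ' : k →+* R} {f f' : R}
    (h1 : ρ = ρ') (h2 : f = f') : Nonempty (S.sh ρ f ≅ S.sh ρ' f') := by
  subst h1 h2
  exact ⟨Iso.refl _⟩

/-- `sh (∑ x_i + a / ∏ x_i)` -/
noncomputable abbrev shT {B : Type u} [CommRing B] (ρ : k →+* B) (n : ℕ) (a : B) :
    EtModW.Mod Λ (Spec (CommRingCat.of (TK B n))) :=
  S.sh ((algebraMap B (TK B n)).comp ρ)
    ((∑ i, x i) + algebraMap B (TK B n) a * Groth.Agent.Sga4h.H980.Fib.inv n)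

/-- `sh (∑ x_i)` -/
noncomputable abbrev sh0 {B : Type u} [CommRing B] (ρ : k →+* B) (n : ℕ) :
    EtModW.Mod Λ (Spec (CommRingCat.of (TK B n))) :=
  S.sh ((algebraMap B (TK B n)).comp ρ) (∑ i, x i)

theorem nonempty_shT_zero {B : Type u} [CommRing B] (ρ : k →+* B) (n : ℕ) :
    Nonempty (shT S ρ n 0 ≅ sh0 S ρ n) :=
  nonempty_sh_congr S rfl (by rw [map_zero, zero_mul, add_zero])

theorem nonempty_pull_shT {B B' : Type u} [CommRing B] [CommRing B'] (ρ : k →+* B) (n : ℕ) (a : B)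
    (ι : B →+* B') :
    Nonempty ((EtModW.pull Λ (Spec.map (CommRingCat.ofHom (mapRI ι n)))).obj (shT S ρ n a) ≅
      shT S (ι.comp ρ) n (ι a)) := by
  refine nonempty_pull_sh S (mapRI ι n) ?_ ?_
  · rw [← RingHom.comp_assoc, mapRI_comp_algebraMap, RingHom.comp_assoc]
  · rw [map_add, map_mul, mapRI_sum, mapRI_algebraMap, mapRI_inv]

theorem nonempty_pull_sh0_evL {B B' : Type u} [CommRing B] [CommRing B'] (ρ : k →+* B) (n : ℕ)
    (ι : B →+* B') (a : B'ˣ) :
    Nonempty ((EtModW.pull Λ (Spec.map (CommRingCat.ofHom (evL ι a n)))).obj (sh0 S ρ (n + 1)) ≅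
      shT S (ι.comp ρ) n (a : B')) := by
  refine nonempty_pull_sh S (evL ι a n) ?_ ?_
  · rw [← RingHom.comp_assoc, evL_comp_algebraMap, RingHom.comp_assoc]
  · rw [evL_sum]

theorem comap_bot_eq {A : Type u} [CommRing A] (y : PrimeSpectrum A) (Ω : Type u) [Field Ω]
    [Algebra y.asIdeal.ResidueField Ω] :
    PrimeSpectrum.comap ((algebraMap y.asIdeal.ResidueField Ω).comp
      (algebraMap A y.asIdeal.ResidueField)) ⟨⊥, Ideal.isPrime_bot⟩ = y := by
  refine PrimeSpectrum.ext ?_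
  change Ideal.comap _ ⊥ = _
  rw [← RingHom.ker_eq_comap_bot, RingHom.ker_comp_of_injective _ (RingHom.injective _)]
  exact y.asIdeal.ker_algebraMap_residueField

/-- A sheaf which is zero at the geometric points. -/
theorem isZero_of_geom {A : Type u} [CommRing A] (N : EtModW.Mod Λ (Spec (CommRingCat.of A)))
    (h : ∀ (Ω : Type u) [Field Ω] [IsSepClosed Ω] (φ : A →+* Ω),
      IsZero ((EtModW.pull Λ (Spec.map (CommRingCat.ofHom φ))).obj N)) : IsZero N := by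
  refine LFinPull.isZero_of_pull (ι := PrimeSpectrum A)
    (fun y => Spec.map (CommRingCat.ofHom ((algebraMap y.asIdeal.ResidueField
      (SeparableClosure y.asIdeal.ResidueField)).comp (algebraMap A y.asIdeal.ResidueField)))) ?_ N
    (fun y => h _ _)
  intro y
  exact ⟨y, (⟨⊥, Ideal.isPrime_bot⟩ : PrimeSpectrum (SeparableClosure (Ideal.ResidueField
    (PrimeSpectrum.asIdeal y)))), comap_bot_eq y _⟩

variable {n : ℕ} (hn0 : 0 < n) (hn : (n : Λ) = 0) {K : Type u} [Field K] (ρ : k →+* K)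

include hn0 hn

/-- The fibres of the direct images along the product of the coordinates. -/
theorem nonempty_bc_evL {κ : Type u} [Field κ] (ι : K →+* κ) (a : κˣ) (m q : ℕ) :
    Nonempty ((EtModW.pull Λ (Spec.map (CommRingCat.ofHom (LaurentPolynomial.eval₂ ι a)))).obj
      ((R Λ (piS K (m + 1)) q).obj (sh0 S ρ (m + 1))) ≅
        (R Λ (strT κ m) q).obj (shT S (ι.comp ρ) m (a : κ))) := by
  obtain ⟨e1⟩ := nonempty_bc hn0 hn (isPullback_evL ι a m) q (sh0 S ρ (m + 1))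
  obtain ⟨e2⟩ := nonempty_pull_sh0_evL S ρ m ι a
  exact ⟨e1 ≪≫ (R Λ _ q).mapIso e2⟩

theorem nonempty_bc_mapRI {B κ : Type u} [Field B] [Field κ] (ρ : k →+* B) (ι : B →+* κ) (a : B) (m q : ℕ) :
    Nonempty ((EtModW.pull Λ (Spec.map (CommRingCat.ofHom ι))).obj
      ((R Λ (strT B m) q).obj (shT S ρ m a)) ≅
        (R Λ (strT κ m) q).obj (shT S (ι.comp ρ) m (ι a))) := by
  obtain ⟨e1⟩ := nonempty_bc hn0 hn (isPullback_mapRI ι m) q (shT S ρ m a)
  obtain ⟨e2⟩ := nonempty_pull_shT S ρ m a ι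
  exact ⟨e1 ≪≫ (R Λ _ q).mapIso e2⟩

omit hn0 hn in
/-- The cohomology of the torus `G_m^m` with coefficients `sh (∑ x_i + a / ∏ x_i)`, `a ≠ 0`. -/
def QQ (m : ℕ) : Prop :=
  ∀ (Ω : Type u) [Field Ω] [IsSepClosed Ω] (ι : K →+* Ω) (a : Ω), a ≠ 0 →
    Cc (strT Ω m) (shT S (ι.comp ρ) m a) m (Nat.card Λ ^ (m + 1))

theorem isZero_rows {m : ℕ} (hQ : QQ S ρ m) (q : ℕ) (hq : q ≠ m) :
    IsZero ((R Λ (piS K (m + 1)) q).obj (sh0 S ρ (m + 1))) := by
  apply isZero_of_geom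
  intro Ω _ _ φ
  have hφ : LaurentPolynomial.eval₂ (φ.comp LaurentPolynomial.C) (Units.map (φ : K[T;T⁻¹] →* Ω) (Tu K)) =
      φ := laurent_ext (by rw [eval₂_comp_C]) (by rw [eval₂_T_one]; rfl)
  obtain ⟨e⟩ := nonempty_bc_evL S hn0 hn ρ (φ.comp LaurentPolynomial.C)
    (Units.map (φ : K[T;T⁻¹] →* Ω) (Tu K)) m q
  rw [hφ] at e
  have h := ((cc_iff _ _ _ _).1 (hQ Ω (φ.comp LaurentPolynomial.C) _
    (Units.map (φ : K[T;T⁻¹] →* Ω) (Tu K)).ne_zero)).1 q hq
  exact h.of_iso e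

theorem isZero_strT {m : ℕ} (hQ : QQ S ρ m) {κ : Type u} [Field κ] (ι : K →+* κ) (a : κ) (ha : a ≠ 0)
    (q : ℕ) (hq : q ≠ m) : IsZero ((R Λ (strT κ m) q).obj (shT S (ι.comp ρ) m a)) := by
  apply isZero_of_geom
  intro Ω _ _ φ
  obtain ⟨e⟩ := nonempty_bc_mapRI S hn0 hn (ι.comp ρ) φ a m q
  have h := ((cc_iff _ _ _ _).1 (hQ Ω (φ.comp ι) (φ a) (by rwa [Ne, map_eq_zero]))).1 q hq
  exact h.of_iso e

end Groth.Agent.Sga4h.H919.IndBasic
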