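import Groth.Agent.Sga4h.H276.Exc

/-!
# Concentration of the cohomology in terms of sheaves on a separably closed point
-/

set_option autoImplicit false
universe u

open CategoryTheory CategoryTheory.Limits AlgebraicGeometry Opposite

namespace Groth.Agent.Sga4h.H919.IndPoint

open ConcH Groth.Agent.Etrest.ModAb Groth.Agent.Sga4h.H276.Cp Groth.Agent.Sga4h.H276.Exc
  Groth.Agent.Sga4h.H299.Rs Groth.Agent.Sga4h.H299.Hc Groth.Agent.Sga4h.ModRestr
  Groth.Agent.Sga4h.EtaleRes Groth.Agent.EtpbcB.GammaRpush Groth.Agent.EtpbcB.SepClosedPoint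

attribute [local instance] jCont

variable {Λ : Type (u + 1)} [CommRing Λ] {K : Type u} [Field K] [IsSepClosed K] {P : Scheme.{u}}
  (p : P ⟶ Spec (CommRingCat.of K)) (F : EtCoh.Ab P)

theorem nonempty_gamma (n : ℕ) (X : EtModW.Mod Λ (Spec (CommRingCat.of K)))
    (e : (ab Λ _).obj X ≅ (EtCoh.Rpush p n).obj F) :
    Nonempty (((ModPoint.Γ Λ _).obj X : Type (u + 1)) ≃+ EtCoh.H P F n) := by
  obtain ⟨e'⟩ := gamma_Rpush p F n
  exact ⟨(gammaAb _ _).trans (((Γtop _).mapIso e).addCommGroupIsoToAddEquiv.trans e')⟩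

theorem concAt_iff (E : ℕ → EtModW.Mod Λ (Spec (CommRingCat.of K)))
    (e : ∀ q, Nonempty ((ab Λ _).obj (E q) ≅ (EtCoh.Rpush p q).obj F)) (d N : ℕ) :
    ConcAt P F d N ↔ RCc E d N := by
  have key : ∀ q, Nonempty (((ModPoint.Γ Λ _).obj (E q) : Type (u + 1)) ≃+ EtCoh.H P F q) :=
    fun q => nonempty_gamma p F q (E q) (e q).some
  constructor
  · intro h
    refine ⟨fun q hq => ?_, ?_, ?_⟩
    · rw [isZero_iff_Γ]
      have := h.zero q hq
      exact (key q).some.toEquiv.subsingleton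
    · have := h.fin
      exact Finite.of_equiv _ (key d).some.symm.toEquiv
    · rw [← h.card]
      exact Nat.card_congr (key d).some.toEquiv
  · rintro ⟨h1, h2, h3⟩
    refine ⟨fun q hq => ?_, ?_, ?_⟩
    · have := (isZero_iff_Γ _).1 (h1 q hq)
      exact (key q).some.symm.toEquiv.subsingleton
    · exact Finite.of_equiv _ (key d).some.toEquiv
    · rw [← h3]
      exact (Nat.card_congr (key d).some.toEquiv).symm

theorem rcc_shift (E : ℕ → EtModW.Mod Λ (Spec (CommRingCat.of K))) (m d N : ℕ)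
    (h0 : ∀ q, q < m → IsZero (E q)) : RCc E (d + m) N ↔ RCc (fun q => E (q + m)) d N := by
  constructor
  · rintro ⟨h1, h2, h3⟩
    exact ⟨fun q hq => h1 (q + m) (by omega), h2, h3⟩
  · rintro ⟨h1, h2, h3⟩
    refine ⟨fun q hq => ?_, h2, h3⟩
    by_cases hm : q < m
    · exact h0 q hm
    · obtain ⟨r, rfl⟩ : ∃ r, q = r + m := ⟨q - m, by omega⟩
      exact h1 r (by omega)

end Groth.Agent.Sga4h.H919.IndPoint
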