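import Groth.Agent.Sga4h.H919.StepTower
import Groth.Agent.Sga4h.H919.IndBasic
import Groth.Agent.Sga4h.H919.IndPoint
import Groth.Agent.Sga4h.H545.InfUnip
import Groth.Agent.Sga4h.H479.EdgeH

/-!
# The induction step

From the rank `m + 1` sheaf `KK m` on `G_m` to the cohomology of `G_m^{m+1}` with coefficients
`sh (∑ x_i + a / ∏ x_i)` and to the unipotence of `KK (m + 1)` at `0`.
-/

set_option autoImplicit false
universe u

open CategoryTheory CategoryTheory.Limits AlgebraicGeometry Opposite IsLocalRing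
open scoped Polynomial LaurentPolynomial

namespace Groth.Agent.Sga4h.H919.IndStep

open EtCoh ConcH P1Geo P1Main Fam Step StepTower IndBasic IndPoint
  Groth.Agent.EtpbcA.P1Charts Groth.Agent.Etrest.StrictLoc
  Groth.Agent.Etrest.ModAb Groth.Agent.Sga4h.H980.Fib Groth.Agent.Sga4h.H980.Geo2
  Groth.Agent.Sga4h.H276.Cp Groth.Agent.Sga4h.H276.Exc Groth.Agent.Sga4h.H545.InfGeo
  Groth.Agent.Sga4h.H545.InfUnip Groth.Agent.Sga4h.H299.Rs Groth.Agent.Sga4h.ModRestr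
  Groth.Agent.Sga4h.H299.ExtBC Groth.Agent.Sga1.UlaSL Groth.Agent.Etcore.LPullComp

variable {k : Type u} [Field k] [Fintype k]

section defs

variable {Λ : Type (u + 1)} [CommRing Λ] (S : ASys k Λ) {K : Type u} [Field K] (ρ : k →+* K)

/-- `R^m π_! (sh (∑ x_i))`, `π = ∏ x_i : G_m^{m+1} ⟶ G_m` -/
noncomputable def KK (m : ℕ) : EtModW.Mod Λ (Spec (CommRingCat.of K[T;T⁻¹])) :=
  (R Λ (piS K (m + 1)) m).obj (sh0 S ρ (m + 1))

/-- its extension by zero to the affine line with coordinate `T⁻¹` -/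
noncomputable def GG (m : ℕ) : EtModW.Mod Λ (AA (CommRingCat.of K)) :=
  (ext Λ (oL K)).obj ((EtModW.pull Λ (invL K)).obj (KK S ρ m))

/-- The cohomology of the torus in terms of the sheaves `Fa`. -/
def A1T (i : Fin (1 + 1)) (m : ℕ) : Prop :=
  ∀ (κ : Type u) [Field κ] (ι : K →+* κ) (a : κ),
    (∀ q, Nonempty ((ab Λ _).obj ((R Λ (strT κ (m + 1)) (q + m)).obj
      (shT S (ι.comp ρ) (m + 1) a)) ≅
        (EtCoh.Rpush (toB (CommRingCat.of κ)) q).obj (Fa S ρ i ι a (GG S ρ m)))) ∧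
    ∀ q, q < m → IsZero ((R Λ (strT κ (m + 1)) q).obj (shT S (ι.comp ρ) (m + 1) a))

theorem conc_iff {i : Fin (1 + 1)} {m : ℕ} (hA1 : A1T S ρ i m) {κ : Type u} [Field κ] [IsSepClosed κ]
    (ι : K →+* κ) (a : κ) (d N : ℕ) :
    Cc (strT κ (m + 1)) (shT S (ι.comp ρ) (m + 1) a) (d + m) N ↔
      ConcAt (PP (CommRingCat.of κ)) (Fa S ρ i ι a (GG S ρ m)) d N := by
  rw [cc_iff, rcc_shift _ m d N (hA1 κ ι a).2]
  exact (concAt_iff (toB (CommRingCat.of κ)) _ _ (hA1 κ ι a).1 d N).symm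

end defs

section main

variable {Λ : Type (u + 1)} [Field Λ] [Finite Λ] {ℓ : ℕ}
  (hℓ : ℓ.Prime) [CharP Λ ℓ] (S : ASys k Λ)
  {K : Type u} [Field K] [IsAlgClosed K] (ρ : k →+* K) (i : Fin (1 + 1)) (hℓK : (ℓ : K) ≠ 0)
  (hO4 : OnePointLes.{u})
  (hΛc : EtPBC.IsConstructible ((ab Λ (AA (CommRingCat.of K))).obj (EtModW.constMod Λ _ Λ)))
  (hV1 : ∀ (Ω : Type u) [Field Ω] [IsSepClosed Ω] (ι : K →+* Ω) (a : Ω), a ≠ 0 → ∀ q,
    Subsingleton (H (PP (CommRingCat.of Ω)) (Fa S ρ i ι a (EtModW.constMod Λ _ Λ)) q))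
  (hV2 : ConcAt (PP (CommRingCat.of K)) (Fa S ρ i (RingHom.id K) 0 (EtModW.constMod Λ _ Λ)) 2
    (Nat.card Λ))
  {V : Type u} [CommRing V] [IsDomain V] [IsDiscreteValuationRing V] [HenselianLocalRing V]
  [Algebra K V] [Algebra K[X] V] [IsScalarTower K K[X] V]
  (hVs : EtCoh.IsStrictlyHenselianLocalRing V) (hloc : IsStrictLoc (spm (algebraMap K[X] V)))
  (hinj : Function.Injective (algebraMap K[X] V))
  (hirr : Irreducible (algebraMap K[X] V (Polynomial.X - Polynomial.C 0)))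
  (hbij : Function.Bijective ((residue V).comp (algebraMap K V)))
  {F : Type u} [Field F] [Algebra V F] [IsFractionRing V F] (θ : K[T;T⁻¹] →+* F)
  (hθ : θ.comp Polynomial.toLaurent = (algebraMap V F).comp (algebraMap K[X] V))

/-- the parameter -/
theorem par_ne_zero (hinj : Function.Injective (algebraMap K[X] V)) (F : Type u) [Field F] [Algebra V F]
    [IsFractionRing V F] {L' : Type u} [Field L'] [Algebra F L'] :
    algebraMap F L' (algebraMap V F (algebraMap K[X] V Polynomial.X)) ≠ 0 := by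
  rw [Ne, map_eq_zero]
  intro h
  exact Polynomial.X_ne_zero (hinj ((IsFractionRing.injective V F (h.trans (map_zero _).symm)).trans
    (map_zero _).symm))

/-- Unipotence at `0`. -/
def UU (m : ℕ) : Prop := Unip Λ (m + 1) ((EtModW.pull Λ (spm θ)).obj (KK S ρ m))

variable {m : ℕ} (hU : UU S ρ θ m) (hA1 : A1T S ρ i m)
  (hA0 : Cc (strT K (m + 1)) (sh0 S ρ (m + 1)) (m + 1) (Nat.card Λ))
  (hGc : EtPBC.IsConstructible ((ab Λ (AA (CommRingCat.of K))).obj (GG S ρ m)))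

include hA1 hA0 in
omit [Finite Λ] [CharP Λ ℓ] in
theorem conc_zero :
    ConcAt (PP (CommRingCat.of K)) (Fa S ρ i (RingHom.id K) 0 (GG S ρ m)) 1 (Nat.card Λ ^ 1) := by
  obtain ⟨e⟩ := nonempty_shT_zero S ρ (m + 1)
  have h := hA0.of_iso e.symm
  rw [pow_one, ← conc_iff S ρ hA1]
  rwa [Nat.add_comm 1 m]

include hθ hirr hloc hU in
omit [Finite Λ] [CharP Λ ℓ] [HenselianLocalRing V] in
theorem unip_GG : Unip Λ (m + 1) ((EtModW.pull Λ (pullback.snd (spm (algebraMap K[X] V) ≫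
    chart (i + 1) (CommRingCat.of K)) (chart i (CommRingCat.of K)))).obj (GG S ρ m)) := by
  rw [Polynomial.C_0, sub_zero] at hirr
  have : IsLocalization.Away (algebraMap K[X] V Polynomial.X) F :=
    Groth.Agent.Sga4h.UlaRing812.isLocalization_away_fraction V F hirr
  exact unip_inf θ hθ i (KK S ρ m) hU

include hℓ hℓK hO4 hΛc hV1 hV2 hloc hirr hθ hU hA1 hA0 hGc in
theorem conc_GG {Ω : Type u} [Field Ω] [IsSepClosed Ω] (ι : K →+* Ω) (a : Ω) (ha : a ≠ 0) :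
    ConcAt (PP (CommRingCat.of Ω)) (Fa S ρ i ι a (GG S ρ m)) 1 (Nat.card Λ ^ (m + 2)) := by
  have hn : 0 < ℓ := hℓ.pos
  have hΛ : (ℓ : Λ) = 0 := CharP.cast_eq_zero Λ ℓ
  have hirr' : Irreducible (algebraMap K[X] V Polynomial.X) := by
    rwa [Polynomial.C_0, sub_zero] at hirr
  have h := conc_Fa S ρ i hn hΛ hℓK hO4 (spm (algebraMap K[X] V) ≫ chart (i + 1) (CommRingCat.of K))
    (isStrictLoc_inf hloc _) (notMem_range_inf (by
      rw [mem_maximalIdeal]
      exact hirr'.not_isUnit) i) (GG S ρ m) hΛc hGc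
    (unip_GG S ρ i hloc hirr θ hθ hU) hV1 hV2 (conc_zero S ρ i hA1 hA0) ι a ha
  rw [← pow_add] at h
  rwa [show 1 + (m + 1) = m + 2 by omega] at h

include hℓ hℓK hO4 hΛc hV1 hV2 hloc hirr hθ hU hA1 hA0 hGc in
/-- **The count.** -/
theorem qq_succ : QQ S ρ (m + 1) := by
  intro Ω _ _ ι a ha
  have h := conc_GG hℓ S ρ i hℓK hO4 hΛc hV1 hV2 hloc hirr θ hθ hU hA1 hA0 hGc ι a ha
  rw [← conc_iff S ρ hA1, Nat.add_comm 1 m] at h
  exact h

include hθ in
omit [IsAlgClosed K] [IsDomain V] [IsDiscreteValuationRing V] [HenselianLocalRing V] [IsFractionRing V F] in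
theorem theta_eq (hinj' : algebraMap V F (algebraMap K[X] V Polynomial.X) ≠ 0) {L' : Type u} [Field L']
    [Algebra F L'] (a : L'ˣ)
    (ha : (a : L') = algebraMap F L' (algebraMap V F (algebraMap K[X] V Polynomial.X))) :
    (algebraMap F L').comp θ = LaurentPolynomial.eval₂ ((algebraMap F L').comp
      ((algebraMap V F).comp (algebraMap K V))) a := by
  refine laurent_ext ?_ ?_
  · rw [eval₂_comp_C]
    ext c
    have h := RingHom.congr_fun hθ (Polynomial.C c)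
    rw [RingHom.comp_apply, Polynomial.toLaurent_C] at h
    rw [RingHom.comp_apply, RingHom.comp_apply, h, RingHom.comp_apply, RingHom.comp_apply,
      RingHom.comp_apply]
    congr 2
    exact (IsScalarTower.algebraMap_apply K K[X] V c).symm
  · rw [eval₂_T_one, RingHom.comp_apply, theta_T_one F θ hθ, ha]

include hℓ hℓK hO4 hΛc hV1 hV2 hVs hloc hinj hirr hbij hθ hU hA1 hA0 hGc in
/-- **Unipotence.** -/
theorem uu_succ : UU S ρ θ (m + 1) := by
  have hn : 0 < ℓ := hℓ.pos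
  have hΛ : (ℓ : Λ) = 0 := CharP.cast_eq_zero Λ ℓ
  have hirr' : Irreducible (algebraMap K[X] V Polynomial.X) := by
    rwa [Polynomial.C_0, sub_zero] at hirr
  have hQ : QQ S ρ (m + 1) :=
    qq_succ hℓ S ρ i hℓK hO4 hΛc hV1 hV2 hloc hirr θ hθ hU hA1 hA0 hGc
  refine unip_tower hℓ S ρ i hℓK hO4 (spm (algebraMap K[X] V) ≫ chart (i + 1) (CommRingCat.of K))
    (isStrictLoc_inf hloc _) (notMem_range_inf (by
      rw [mem_maximalIdeal]
      exact hirr'.not_isUnit) i) (GG S ρ m) hΛc hGc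
    (unip_GG S ρ i hloc hirr θ hθ hU) hV1 hV2 (conc_zero S ρ i hA1 hA0) hVs hinj hirr hbij
    (F := F) _ ?_
  intro L' _ _
  let ι' : K →+* L' := (algebraMap F L').comp ((algebraMap V F).comp (algebraMap K V))
  have ha := par_ne_zero hinj F (L' := L')
  let a : L'ˣ := Units.mk0 _ ha
  have e1 : (EtModW.pull Λ (Spec.map (CommRingCat.ofHom (algebraMap F L')))).obj
      ((EtModW.pull Λ (spm θ)).obj (KK S ρ (m + 1))) ≅
      (EtModW.pull Λ (Spec.map (CommRingCat.ofHom (LaurentPolynomial.eval₂ ι' a)))).obj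
        (KK S ρ (m + 1)) :=
    (pullComp Λ _ _).app _ ≪≫ (pullCongr Λ (by
      rw [← theta_eq θ hθ (by simpa using par_ne_zero hinj F (L' := F)) a rfl,
        CommRingCat.ofHom_comp, Spec.map_comp])).app _
  obtain ⟨e2⟩ := nonempty_bc_evL S hn hΛ ρ ι' a (m + 1) (m + 1)
  obtain ⟨e3⟩ := (hA1 L' ι' a).1 1
  have e4 : (ab Λ _).obj ((EtModW.pull Λ (Spec.map (CommRingCat.ofHom (algebraMap F L')))).obj
      ((EtModW.pull Λ (spm θ)).obj (KK S ρ (m + 1)))) ≅
      (EtCoh.Rpush (toB (CommRingCat.of L')) 1).obj (Fa S ρ i ι' (a : L') (GG S ρ m)) :=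
    (ab Λ _).mapIso (e1 ≪≫ e2) ≪≫ (ab Λ _).mapIso (eqToIso (by rw [Nat.add_comm 1 m])) ≪≫ e3
  obtain ⟨e5⟩ := Groth.Agent.Sga4h.H479.EdgeH.nonempty_edge (toB (CommRingCat.of L'))
    (Fa S ρ i ι' (a : L') (GG S ρ m)) 1 (fun q hq => by
      obtain rfl : q = 0 := by omega
      obtain ⟨e6⟩ := (hA1 L' ι' a).1 0
      have h7 := isZero_strT S hn hΛ ρ hQ ι' (a : L') a.ne_zero (0 + m) (by omega)
      exact ((ab Λ _).map_isZero h7).of_iso e6.symm)
  obtain ⟨e8⟩ := FaPbc.equivH_of_iso e4 0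
  exact ⟨e8.trans e5.toEquiv⟩

end main

end Groth.Agent.Sga4h.H919.IndStep
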