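import Groth.Agent.Sga4h.H919.IndBasic
import Groth.Agent.Sga4h.H545.InfUnip
import Groth.Agent.Etcore.NormalAcyclic

/-!
# Direct images with proper supports along isomorphisms
-/

set_option autoImplicit false
universe u

open CategoryTheory CategoryTheory.Limits AlgebraicGeometry Opposite IsLocalRing
open scoped Polynomial LaurentPolynomial

namespace Groth.Agent.Sga4h.H919.IndZero

open EtCoh ConcH P1Geo Fam IndBasic
  Groth.Agent.EtpbcA.P1Charts Groth.Agent.Etrest.StrictLoc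
  Groth.Agent.Etrest.ModAb Groth.Agent.Sga4h.H980.Fib Groth.Agent.Sga4h.H980.Geo2
  Groth.Agent.Sga4h.H276.Cp Groth.Agent.Sga4h.H276.Exc Groth.Agent.Sga4h.H545.InfGeo
  Groth.Agent.Sga4h.H545.InfUnip Groth.Agent.Sga4h.H299.Rs Groth.Agent.Sga4h.ModRestr
  Groth.Agent.Sga4h.EtaleRes
  Groth.Agent.Sga4h.H299.ExtBC Groth.Agent.Sga1.UlaSL Groth.Agent.Etcore.LPullComp

attribute [local instance] jCont

section iso

variable {Λ : Type (u + 1)} [CommRing Λ]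

/-- `𝟙_* ≅ 𝟭` -/
noncomputable def pushOne (X : Scheme.{u}) : EtModW.push Λ (𝟙 X) ≅ 𝟭 _ :=
  Adjunction.rightAdjointUniq ((pullPushAdj Λ (𝟙 X)).ofNatIsoLeft (pullId Λ X)) Adjunction.id

/-- `𝟙_! ≅ 𝟭` -/
noncomputable def extOne (X : Scheme.{u}) : ext Λ (𝟙 X) ≅ 𝟭 _ :=
  (Functor.rightUnitor _).symm ≪≫ Functor.isoWhiskerLeft (ext Λ (𝟙 X)) (pullId Λ X).symm ≪≫
    extPullIso Λ (𝟙 X)

variable {n : ℕ} (hn0 : 0 < n) (hn : (n : Λ) = 0)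

include hn0 hn

theorem nonempty_R_one {X : Scheme.{u}} [Cf (𝟙 X)] (M : EtModW.Mod Λ X) :
    Nonempty ((R Λ (𝟙 X) 0).obj M ≅ M) := by
  obtain ⟨e⟩ := nonempty_R hn0 hn (f := 𝟙 X) ⟨X, 𝟙 X, 𝟙 X, inferInstance, inferInstance,
    inferInstance, Category.comp_id _⟩ 0 M
  have e1 : EtModW.Rpush Λ (𝟙 X) 0 ≅ EtModW.push Λ (𝟙 X) :=
    (EtModW.push Λ (𝟙 X)).rightDerivedZeroIsoSelf
  exact ⟨e ≪≫ (e1 ≪≫ pushOne X).app ((ext Λ (𝟙 X)).obj M) ≪≫ (extOne X).app M⟩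

theorem isZero_R_one {X : Scheme.{u}} [Cf (𝟙 X)] (M : EtModW.Mod Λ X) (q : ℕ) (hq : q ≠ 0) :
    IsZero ((R Λ (𝟙 X) q).obj M) := by
  obtain ⟨e⟩ := nonempty_R hn0 hn (f := 𝟙 X) ⟨X, 𝟙 X, 𝟙 X, inferInstance, inferInstance,
    inferInstance, Category.comp_id _⟩ q M
  refine IsZero.of_iso ?_ e
  obtain ⟨r, rfl⟩ : ∃ r, q = r + 1 := ⟨q - 1, by omega⟩
  have : PreservesFiniteColimits (EtModW.push Λ (𝟙 X)) :=
    preservesFiniteColimits_of_natIso (pushOne X).symm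
  exact Groth.Agent.Etcore.NormalAcyclic.isZero_rightDerived_of_exact _ _ _

theorem nonempty_R_iso {X Y : Scheme.{u}} (f : X ⟶ Y) [IsIso f] [Cf f] [Cf (𝟙 Y)]
    (M : EtModW.Mod Λ X) :
    Nonempty ((R Λ f 0).obj M ≅ (EtModW.pull Λ (inv f)).obj M) := by
  obtain ⟨e1⟩ := nonempty_iso hn0 hn (inv f) (IsIso.inv_hom_id f) 0 M
  obtain ⟨e2⟩ := nonempty_R_one hn0 hn ((EtModW.pull Λ (inv f)).obj M)
  exact ⟨e1 ≪≫ e2⟩

theorem isZero_R_iso {X Y : Scheme.{u}} (f : X ⟶ Y) [IsIso f] [Cf f] [Cf (𝟙 Y)]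
    (M : EtModW.Mod Λ X) (q : ℕ) (hq : q ≠ 0) : IsZero ((R Λ f q).obj M) := by
  obtain ⟨e1⟩ := nonempty_iso hn0 hn (inv f) (IsIso.inv_hom_id f) q M
  exact (isZero_R_one hn0 hn _ q hq).of_iso e1

end iso

end Groth.Agent.Sga4h.H919.IndZero
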