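import Groth.Agent.EtpbcA.LATrans

/-!
# The stalk condition depends only on the strict localization

* `laStalk_transfer`: `LAStalk eps F ξ` only depends on the base change of `eps` to a strict localization
  `Spec C` at `ξ` and on the inverse image of `F` on `Spec C`.
* `laStalk_congr`: two sheaves with isomorphic inverse images on `Spec C`.
* `laStalk_weaklyEtale`: compatibility with weakly étale base change (e.g. open immersions).
-/

set_option autoImplicit false
universe u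

open CategoryTheory CategoryTheory.Limits AlgebraicGeometry Opposite IsLocalRing

namespace Groth.Agent.Sga4h.H919.LaCongr

open EtCoh Groth.Agent.EtpbcA.LA Groth.Agent.EtpbcB Groth.Agent.Etrest.StrictLoc
  Groth.Agent.Sga1.UlaRes Groth.Agent.Sga1.UlaSL

/-- The stalk condition in terms of the absolute pullback map on a strict localization. -/
theorem laStalk_iff_Hpull {X Y : Scheme.{u}} (eps : Y ⟶ X) [QuasiCompact eps] [QuasiSeparated eps]
    (F : Ab X) {Ω : Type u} [Field Ω] [IsSepClosed Ω] (ξ : Spec (CommRingCat.of Ω) ⟶ X)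
    {C : Type u} [CommRing C] [IsLocalRing C] {τ : Spec (CommRingCat.of C) ⟶ X} (hτ : IsStrictLoc τ)
    (hξ : ξ default = τ (closedPoint C))
    {P : Scheme.{u}} {a : P ⟶ Y} {b : P ⟶ Spec (CommRingCat.of C)} (h : IsPullback a b eps τ) :
    LAStalk eps F ξ ↔ ∀ q : ℕ, Function.Bijective (EtCore.Hpull b ((pull τ).obj F) q) := by
  rw [laStalk_iff_res eps F ξ hτ hξ h]
  exact forall_congr' fun q => res_bijective_iff F b τ (b ≫ τ) rfl q

theorem laStalk_transfer {X Y X' Y' : Scheme.{u}} (eps : Y ⟶ X) [QuasiCompact eps]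
    [QuasiSeparated eps] (eps' : Y' ⟶ X') [QuasiCompact eps'] [QuasiSeparated eps']
    (F : Ab X) (F' : Ab X') {Ω : Type u} [Field Ω] [IsSepClosed Ω] (ξ : Spec (CommRingCat.of Ω) ⟶ X)
    {Ω' : Type u} [Field Ω'] [IsSepClosed Ω'] (ξ' : Spec (CommRingCat.of Ω') ⟶ X')
    {C : Type u} [CommRing C] [IsLocalRing C] {τ : Spec (CommRingCat.of C) ⟶ X} (hτ : IsStrictLoc τ)
    (hξ : ξ default = τ (closedPoint C)) {τ' : Spec (CommRingCat.of C) ⟶ X'} (hτ' : IsStrictLoc τ')
    (hξ' : ξ' default = τ' (closedPoint C))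
    {P : Scheme.{u}} {a : P ⟶ Y} {b : P ⟶ Spec (CommRingCat.of C)} (h : IsPullback a b eps τ)
    {a' : P ⟶ Y'} (h' : IsPullback a' b eps' τ')
    (e : (pull τ).obj F ≅ (pull τ').obj F') : LAStalk eps F ξ ↔ LAStalk eps' F' ξ' := by
  rw [laStalk_iff_Hpull eps F ξ hτ hξ h, laStalk_iff_Hpull eps' F' ξ' hτ' hξ' h']
  exact forall_congr' fun q => Hpull_bijective_congr b e q

theorem laStalk_congr {X Y : Scheme.{u}} (eps : Y ⟶ X) [QuasiCompact eps] [QuasiSeparated eps]
    (F F' : Ab X) {Ω : Type u} [Field Ω] [IsSepClosed Ω] (ξ : Spec (CommRingCat.of Ω) ⟶ X)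
    {C : Type u} [CommRing C] [IsLocalRing C] {τ : Spec (CommRingCat.of C) ⟶ X} (hτ : IsStrictLoc τ)
    (hξ : ξ default = τ (closedPoint C)) (e : (pull τ).obj F ≅ (pull τ).obj F') :
    LAStalk eps F ξ ↔ LAStalk eps F' ξ :=
  laStalk_transfer eps eps F F' ξ ξ hτ hξ hτ hξ (IsPullback.of_hasPullback eps τ)
    (IsPullback.of_hasPullback eps τ) e

theorem laStalk_weaklyEtale {X Y X' Y' : Scheme.{u}} (eps : Y ⟶ X) [QuasiCompact eps]
    [QuasiSeparated eps] {eps' : Y' ⟶ X'} {q : X' ⟶ X} [WeaklyEtale q] {q' : Y' ⟶ Y}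
    (sq : IsPullback q' eps' eps q) (F : Ab X) (F' : Ab X') (e : (pull q).obj F ≅ F')
    {Ω : Type u} [Field Ω] [IsSepClosed Ω] (ξ : Spec (CommRingCat.of Ω) ⟶ X)
    {Ω' : Type u} [Field Ω'] [IsSepClosed Ω'] (ξ' : Spec (CommRingCat.of Ω') ⟶ X')
    (hξ : ξ default = q (ξ' default)) :
    LAStalk eps F ξ ↔ LAStalk eps' F' ξ' := by
  have : QuasiCompact eps' := MorphismProperty.of_isPullback sq inferInstance
  have : QuasiSeparated eps' := MorphismProperty.of_isPullback sq inferInstance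
  obtain ⟨C, _, _, τ, hτ, hτx⟩ := exists_isStrictLoc X' (ξ' default)
  have h1 : IsPullback (pullback.fst eps' τ) (pullback.snd eps' τ) eps' τ :=
    IsPullback.of_hasPullback eps' τ
  have h2 : IsPullback (pullback.fst eps' τ ≫ q') (pullback.snd eps' τ) eps (τ ≫ q) :=
    (h1.flip.paste_vert sq.flip).flip
  have hτq : IsStrictLoc (τ ≫ q) := hτ.comp q
  refine laStalk_transfer eps eps' F F' ξ ξ' hτq ?_ hτ hτx.symm h2 h1 ?_
  · rw [hξ, ← hτx]
    rfl
  · exact (EtCore.pullComp τ q).app F ≪≫ (pull τ).mapIso e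

end Groth.Agent.Sga4h.H919.LaCongr
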