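import Groth.Agent.Sga4h.H919.LaCongr
import Groth.Agent.Sga4B.ShriekTools
import Groth.Agent.Etrest.IsoInv

/-!
# The stalk condition for extensions by zero, and over the generic fibre

* `laStalk_of_isIso`, `laStalk_of_mem_range` (`ε` an open immersion, `ξ` in its image);
* `laStalk_extZero`: at the points of an open subscheme `U`, the stalk condition for `j_! E`.
* `laStalk_of_ne`: assembly.
-/

set_option autoImplicit false
universe u

open CategoryTheory CategoryTheory.Limits AlgebraicGeometry Opposite IsLocalRing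

namespace Groth.Agent.Sga4h.H919.LaPoint

open EtCoh Groth.Agent.EtpbcA.LA Groth.Agent.EtpbcB Groth.Agent.Etrest.StrictLoc
  Groth.Agent.Sga1.UlaRes Groth.Agent.Sga1.UlaSL LaCongr

theorem laStalk_of_isIso {X Y : Scheme.{u}} (ε : Y ⟶ X) [IsIso ε] (F : Ab X)
    {k : Type u} [Field k] [IsSepClosed k] (ξ : Spec (CommRingCat.of k) ⟶ X) : LAStalk ε F ξ := by
  obtain ⟨C, _, _, τ, hτ, hτx⟩ := exists_isStrictLoc X (ξ default)
  have hP : IsPullback (pullback.fst ε τ) (pullback.snd ε τ) ε τ := IsPullback.of_hasPullback ε τ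
  rw [laStalk_iff_Hpull ε F ξ hτ hτx.symm hP]
  intro q
  exact Groth.Agent.Etrest.IsoInv.bijective_Hpull (pullback.snd ε τ) _ q

/-- Over the image of an open immersion `ε` the stalk condition for `ε` is trivial. -/
theorem laStalk_of_mem_range {X Y : Scheme.{u}} (ε : Y ⟶ X) [IsOpenImmersion ε] [QuasiCompact ε]
    (F : Ab X) {k : Type u} [Field k] [IsSepClosed k] (ξ : Spec (CommRingCat.of k) ⟶ X)
    (hξ : ξ default ∈ Set.range ε) : LAStalk ε F ξ := by
  obtain ⟨y, hy⟩ := hξ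
  obtain ⟨k', _, _, ξ', hξ'⟩ := EtpbcA.Germ.exists_geomPt_aux Y y
  have sq : IsPullback (𝟙 Y) (𝟙 Y) ε ε :=
    IsKernelPair.id_of_mono ε
  exact (laStalk_weaklyEtale ε sq F _ (Iso.refl _) ξ ξ' (by rw [hξ', hy])).2
    (laStalk_of_isIso _ _ _)

theorem laStalk_extZero {X Y U V : Scheme.{u}} (ε : Y ⟶ X) [QuasiCompact ε] [QuasiSeparated ε]
    (j : U ⟶ X) [IsOpenImmersion j] {j' : V ⟶ Y} {ε' : V ⟶ U} (sq : IsPullback j' ε' ε j)
    (E : Ab U) {k : Type u} [Field k] [IsSepClosed k] (ξ : Spec (CommRingCat.of k) ⟶ X)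
    {k' : Type u} [Field k'] [IsSepClosed k'] (ξ' : Spec (CommRingCat.of k') ⟶ U)
    (hξ : ξ default = j (ξ' default)) :
    LAStalk ε ((EtShriek.extZero j).obj E) ξ ↔ LAStalk ε' E ξ' :=
  laStalk_weaklyEtale ε sq _ _ (Sga4B.ShriekTools.pullExtZeroIso j E) ξ ξ' hξ

/-- `X` over `S`, `ε : Y ⟶ X` an open immersion, `j : U ⟶ X` open, `ξ₀` a point of `X` such that every
other point is in `Y` or in `U`; `E` on `U` satisfying the stalk condition for `ε' : Y ∩ U ⟶ U` at the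
points of `U` not in `Y`.  Then `j_! E` satisfies the stalk condition at all points except `ξ₀`. -/
theorem laStalk_of_ne {X Y U V : Scheme.{u}} (ε : Y ⟶ X) [IsOpenImmersion ε] [QuasiCompact ε]
    (j : U ⟶ X) [IsOpenImmersion j] {j' : V ⟶ Y} {ε' : V ⟶ U} (sq : IsPullback j' ε' ε j)
    (E : Ab U) (x₀ : X) (hx₀ : ∀ x : X, x ≠ x₀ → x ∈ Set.range ε ∨ x ∈ Set.range j)
    (hE : ∀ (k : Type u) [Field k] [IsSepClosed k] (ξ : Spec (CommRingCat.of k) ⟶ U),
      j (ξ default) ∉ Set.range ε → LAStalk ε' E ξ)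
    {k : Type u} [Field k] [IsSepClosed k] (ξ : Spec (CommRingCat.of k) ⟶ X)
    (hξ : ξ default ≠ x₀) : LAStalk ε ((EtShriek.extZero j).obj E) ξ := by
  by_cases h : ξ default ∈ Set.range ε
  · exact laStalk_of_mem_range ε _ ξ h
  · obtain ⟨w, hw⟩ := (hx₀ _ hξ).resolve_left h
    obtain ⟨k', _, _, ξ', hξ'⟩ := EtpbcA.Germ.exists_geomPt_aux U w
    have e : ξ default = j (ξ' default) := by rw [hξ', hw]
    exact (laStalk_extZero ε j sq E ξ ξ' e).2 (hE k' ξ' (by rw [← e]; exact h))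

end Groth.Agent.Sga4h.H919.LaPoint
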