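import Groth.Agent.Sga4h.H919.LaCongr
import Groth.Agent.Sga4h.NcTransfer
import Groth.Agent.EtpbcB.TorsionBasic

/-!
# The stalk condition over a field whose Galois group has order prime to `n`

* `bijective_of_inj_comp`
* `laStalk_of_sepClosure`: `f : X ⟶ Spec A`, `κ` a field over `A` all of whose finite Galois extensions have
  degree prime to `n`, `Ω` a separable closure of `κ`, `F` killed by `n`: the stalk condition for
  `X_Ω ⟶ X` implies the stalk condition for `X_κ ⟶ X`.
-/

set_option autoImplicit false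
universe u

open CategoryTheory CategoryTheory.Limits AlgebraicGeometry Opposite IsLocalRing

namespace Groth.Agent.Sga4h.H919.LaTower

open EtCoh Groth.Agent.EtpbcA.LA Groth.Agent.EtpbcB Groth.Agent.Etrest.StrictLoc
  Groth.Agent.Sga1.UlaRes Groth.Agent.Sga1.UlaSL LaCongr

/-- `g` injective and `g ∘ f` bijective: `f` is bijective. -/
theorem bijective_of_inj_comp {α β γ : Type*} {f : α → β} {g : β → γ} (hg : Function.Injective g)
    (h : Function.Bijective (g ∘ f)) : Function.Bijective f :=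
  ⟨h.1.of_comp, fun y => by
    obtain ⟨x, hx⟩ := h.2 (g y)
    exact ⟨x, hg hx⟩⟩

theorem laStalk_of_sepClosure {X Xκ XΩ : Scheme.{u}} {A : Type u} [CommRing A]
    (f : X ⟶ Spec (CommRingCat.of A)) (κ Ω : Type u) [Field κ] [Field Ω] [Algebra κ Ω]
    [IsSepClosure κ Ω] (n : ℕ)
    (hκ : ∀ (M : Type u) [Field M] [Algebra κ M] [FiniteDimensional κ M] [IsGalois κ M],
      (Module.finrank κ M).Coprime n)
    {y : Spec (CommRingCat.of κ) ⟶ Spec (CommRingCat.of A)} {ε : Xκ ⟶ X}
    {g : Xκ ⟶ Spec (CommRingCat.of κ)} (h1 : IsPullback ε g f y)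
    {εΩ : XΩ ⟶ Xκ} {gΩ : XΩ ⟶ Spec (CommRingCat.of Ω)}
    (h2 : IsPullback εΩ gΩ g (Spec.map (CommRingCat.ofHom (algebraMap κ Ω))))
    (F : Ab X) (hF : KilledBy n F) {k : Type u} [Field k] [IsSepClosed k]
    (ξ : Spec (CommRingCat.of k) ⟶ X) (h : LAStalk (εΩ ≫ ε) F ξ) : LAStalk ε F ξ := by
  have : QuasiCompact ε := MorphismProperty.of_isPullback h1.flip inferInstance
  have : QuasiSeparated ε := MorphismProperty.of_isPullback h1.flip inferInstance
  have : QuasiCompact εΩ := MorphismProperty.of_isPullback h2.flip inferInstance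
  have : QuasiSeparated εΩ := MorphismProperty.of_isPullback h2.flip inferInstance
  obtain ⟨C, _, _, τ, hτ, hτx⟩ := exists_isStrictLoc X (ξ default)
  have hP : IsPullback (pullback.fst ε τ) (pullback.snd ε τ) ε τ := IsPullback.of_hasPullback ε τ
  have hQ : IsPullback (pullback.fst εΩ (pullback.fst ε τ)) (pullback.snd εΩ (pullback.fst ε τ))
    εΩ (pullback.fst ε τ) := IsPullback.of_hasPullback _ _
  have hPQ : IsPullback (pullback.fst εΩ (pullback.fst ε τ))
      (pullback.snd εΩ (pullback.fst ε τ) ≫ pullback.snd ε τ) (εΩ ≫ ε) τ :=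
    hQ.paste_vert hP
  rw [laStalk_iff_res (εΩ ≫ ε) F ξ hτ hτx.symm hPQ] at h
  rw [laStalk_iff_res ε F ξ hτ hτx.symm hP]
  intro q
  let b := pullback.snd ε τ
  let e := pullback.snd εΩ (pullback.fst ε τ)
  have hb : IsPullback e (pullback.fst εΩ (pullback.fst ε τ) ≫ gΩ) (pullback.fst ε τ ≫ g)
    (Spec.map (CommRingCat.ofHom (algebraMap κ Ω))) := (hQ.flip.paste_vert h2)
  have hbq : IsPullback b (pullback.fst ε τ ≫ g) (τ ≫ f) y := hP.flip.paste_vert h1
  have : QuasiCompact (pullback.fst ε τ ≫ g) := MorphismProperty.of_isPullback hbq inferInstance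
  have : QuasiSeparated (pullback.fst ε τ ≫ g) := MorphismProperty.of_isPullback hbq inferInstance
  have hinj := Groth.Agent.Sga4h.NcTransfer.W2 κ Ω n hκ (pullback.fst ε τ ≫ g) e
    (pullback.fst εΩ (pullback.fst ε τ) ≫ gΩ) hb ((pull (b ≫ τ)).obj F)
    (EtpbcB.TorsionBasic.killedBy_map _ _ _ hF) q
  have hinj' : Function.Injective (res F e (b ≫ τ) ((e ≫ b) ≫ τ) (Category.assoc _ _ _).symm q) := by
    have h3 : (res F e (b ≫ τ) ((e ≫ b) ≫ τ) (Category.assoc _ _ _).symm q :
        HT F (b ≫ τ) q → HT F ((e ≫ b) ≫ τ) q) = ((EtCoh.HF (pullback εΩ (pullback.fst ε τ)) q).map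
        ((((EtCore.pullComp e (b ≫ τ)).symm ≪≫ EtCore.pullCongr
          (Category.assoc _ _ _).symm).app F).hom)).hom ∘
        (EtCore.Hpull e ((EtCoh.pull (b ≫ τ)).obj F) q) := rfl
    rw [h3]
    exact (postcomp_bijective _ _ _ q).1.comp hinj
  refine bijective_of_inj_comp hinj' ?_
  have h4 := h q
  convert h4 using 1
  funext x
  exact res_comp F e b (e ≫ b) rfl _ _ _ rfl _ _ q x

end Groth.Agent.Sga4h.H919.LaTower
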