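import Groth.Agent.Sga4h.H919.ConcH
import Groth.Agent.Sga5.H835.TensInv
import Groth.Agent.Sga4h.BidTens
import Groth.Agent.Etrest.ModCons
import Groth.Agent.Etcore.LPullComp
import Groth.Agent.Sga4h.ModPointCons
import Groth.Agent.Etdl.H423.ModBasic
import Groth.Agent.Etcore.ShriekBaseChange
import Groth.Agent.Sga4B.ShriekTools

/-!
# Twisted sheaves `j_! (p^* M ⊗ L)` and their restriction near the bad point

* `twF p L`: `M ↦ p^* M ⊗ L`, `shF j p L`: `M ↦ j_! (p^* M ⊗ L)` (as abelian sheaves);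
* `Theta`: the same on a base change, as an exact functor of `M ∈ Mod T`;
* `thetaIso`: `Theta (t^* M)` is the inverse image of `shF j p L M`;
* `Unip.pull`.
-/

set_option autoImplicit false
universe u

open CategoryTheory CategoryTheory.Limits AlgebraicGeometry Opposite

namespace Groth.Agent.Sga4h.H919.NearTheta

open Groth.Agent.Etrest.ModAb Groth.Agent.Etrest.ModCons Groth.Agent.Sga5.H835.TensInv
  Groth.Agent.Etcore.LPullComp Groth.Agent.Etdl.H423.ModBasic Groth.Agent.Etcore.ShriekBaseChange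

variable {Λ : Type (u + 1)} [CommRing Λ]

/-- `M ↦ p^* M ⊗ L`. -/
noncomputable abbrev twF {U U₀ : Scheme.{u}} (p : U ⟶ U₀) (L : EtModW.Mod Λ U) :
    EtModW.Mod Λ U₀ ⥤ EtModW.Mod Λ U :=
  EtModW.pull Λ p ⋙ tr L

/-- `M ↦ j_! (p^* M ⊗ L)`. -/
noncomputable abbrev shF {X U U₀ : Scheme.{u}} (j : U ⟶ X) [IsOpenImmersion j] (p : U ⟶ U₀)
    (L : EtModW.Mod Λ U) : EtModW.Mod Λ U₀ ⥤ EtCoh.Ab X :=
  twF p L ⋙ ab Λ U ⋙ EtShriek.extZero j

instance additive_tr {U : Scheme.{u}} (L : EtModW.Mod Λ U) [PreservesFiniteLimits (tr L)] :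
    (tr L).Additive :=
  Functor.additive_of_preserves_binary_products _

/-- The inverse image of `A ⊗ L`. -/
noncomputable def pullTr {U V : Scheme.{u}} (L : EtModW.Mod Λ U) (c : V ⟶ U) :
    tr L ⋙ EtModW.pull Λ c ≅ EtModW.pull Λ c ⋙ tr ((EtModW.pull Λ c).obj L) :=
  NatIso.ofComponents (fun A => asIso (Groth.Agent.Sga4h.BidTens.delta c A L))
    (fun {_ _} a => Groth.Agent.Sga4h.BidTens.delta_nat₁ c a L)

/-- The inverse image of a twisted sheaf. -/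
noncomputable def pullTw {U U₀ V T : Scheme.{u}} (p : U ⟶ U₀) (L : EtModW.Mod Λ U) (c : V ⟶ U)
    (h : V ⟶ T) (t : T ⟶ U₀) (w : c ≫ p = h ≫ t) :
    twF p L ⋙ EtModW.pull Λ c ≅ EtModW.pull Λ t ⋙ twF h ((EtModW.pull Λ c).obj L) :=
  Functor.isoWhiskerLeft (EtModW.pull Λ p) (pullTr L c) ≪≫
    (Functor.associator _ _ _).symm ≪≫
    Functor.isoWhiskerRight (pullComp Λ c p ≪≫ pullCongr Λ w ≪≫ (pullComp Λ h t).symm)
      (tr ((EtModW.pull Λ c).obj L)) ≪≫ Functor.associator _ _ _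

variable {X U U₀ P V T : Scheme.{u}} (j : U ⟶ X) [IsOpenImmersion j] (p : U ⟶ U₀)
  (L : EtModW.Mod Λ U) (z : P ⟶ X) (jP : V ⟶ P) [IsOpenImmersion jP] (c : V ⟶ U)
  (sq : IsPullback jP c z j) (h : V ⟶ T) (t : T ⟶ U₀) (w : c ≫ p = h ≫ t)

/-- The exact functor `Mod T ⥤ Ab P`, `N ↦ jP_! (h^* N ⊗ L|_V)`. -/
noncomputable abbrev Theta : EtModW.Mod Λ T ⥤ EtCoh.Ab P := shF jP h ((EtModW.pull Λ c).obj L)

/-- `z^* j_! (p^* M ⊗ L) ≅ Theta (t^* M)`. -/
noncomputable def thetaIso : shF j p L ⋙ EtCoh.pull z ≅ EtModW.pull Λ t ⋙ Theta L jP c h :=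
  Functor.isoWhiskerLeft (twF p L ⋙ ab Λ U) (extZeroBaseChange j z jP c sq).symm ≪≫
    Functor.isoWhiskerLeft (twF p L) (Functor.isoWhiskerRight (pullIso Λ c).symm (EtShriek.extZero jP)) ≪≫
    Functor.isoWhiskerRight (pullTw p L c h t w) (ab Λ V ⋙ EtShriek.extZero jP)

end Groth.Agent.Sga4h.H919.NearTheta
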