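import Groth.Agent.Sga4h.H919.LaPoint
import Groth.Agent.Sga4h.H919.NearTheta

/-!
# The stalk condition is insensitive to twists by invertible sheaves

* `nonempty_pull_iso`: an invertible sheaf is constant on strict localizations;
* `laStalk_tw`: the stalk condition for `A ⊗ L` and for `A` are equivalent.
-/

set_option autoImplicit false
universe u

open CategoryTheory CategoryTheory.Limits AlgebraicGeometry Opposite IsLocalRing

namespace Groth.Agent.Sga4h.H919.LaTwist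

open EtCoh Groth.Agent.EtpbcA.LA Groth.Agent.EtpbcB Groth.Agent.Etrest.StrictLoc
  Groth.Agent.Sga1.UlaRes Groth.Agent.Sga1.UlaSL LaCongr LaPoint NearTheta
  Groth.Agent.Etrest.ModAb Groth.Agent.Sga5.H835.TensInv Groth.Agent.Etcore.LPullComp
  Groth.Agent.Sga4h.ModDTensor Groth.Agent.Sga4h.ModDUnit Groth.Agent.Sga5.H835.InvRes
  Groth.Agent.Sga4h.BidEtSh

variable {Λ : Type (u + 1)} [CommRing Λ]

/-- An invertible sheaf is constant on strict localizations. -/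
theorem nonempty_pull_iso {X : Scheme.{u}} {L : EtModW.Mod Λ X} (hL : SGA5.IsInvertible L)
    {C : Type u} [CommRing C] [IsLocalRing C] {τ : Spec (CommRingCat.of C) ⟶ X} (hτ : IsStrictLoc τ) :
    Nonempty ((EtModW.pull Λ τ).obj L ≅ EtModW.constMod Λ _ Λ) := by
  rw [isInvertible_iff] at hL
  obtain ⟨W, g, hg, w, hw, ⟨i⟩⟩ := hL (τ (closedPoint C))
  obtain ⟨C', _, _, τ', hτ', hτ'w⟩ := exists_isStrictLoc W w
  have h1 : IsStrictLoc (τ' ≫ g) := hτ'.comp g
  have h2 : (τ' ≫ g) (closedPoint C') = τ (closedPoint C) := by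
    rw [← hw, ← hτ'w]
    rfl
  obtain ⟨e, -, -, he⟩ := h1.exists_equiv hτ h2
  refine ⟨(pullCongr Λ he.symm).app L ≪≫ (pullComp Λ (spm e) (τ' ≫ g)).symm.app L ≪≫
    (EtModW.pull Λ (spm e)).mapIso ((pullComp Λ τ' g).symm.app L ≪≫
      (EtModW.pull Λ τ').mapIso ((pullIsoResM Λ g).app L ≪≫ i) ≪≫
      Groth.Agent.Sga4h.ModPoint.pullConst Λ τ' (ModuleCat.of Λ Λ)) ≪≫
    Groth.Agent.Sga4h.ModPoint.pullConst Λ (spm e) (ModuleCat.of Λ Λ)⟩

/-- `A ⊗ L ≅ A` if `L` is isomorphic to the constant sheaf. -/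
noncomputable def trId {X : Scheme.{u}} {L : EtModW.Mod Λ X} (i : L ≅ EtModW.constMod Λ X Λ) :
    tr L ≅ 𝟭 _ :=
  flipObjIso L ≪≫ (EtModD.tensorBi Λ X).mapIso i ≪≫ unitIso Λ X

/-- A twist by an invertible sheaf does not change the inverse image on a strict localization. -/
theorem nonempty_pull_tr {X : Scheme.{u}} {L : EtModW.Mod Λ X} (hL : SGA5.IsInvertible L)
    {C : Type u} [CommRing C] [IsLocalRing C] {τ : Spec (CommRingCat.of C) ⟶ X} (hτ : IsStrictLoc τ)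
    (A : EtModW.Mod Λ X) :
    Nonempty ((pull τ).obj ((ab Λ X).obj ((tr L).obj A)) ≅ (pull τ).obj ((ab Λ X).obj A)) := by
  obtain ⟨i⟩ := nonempty_pull_iso hL hτ
  exact ⟨(pullIso Λ τ).symm.app _ ≪≫ (ab Λ _).mapIso
    (asIso (Groth.Agent.Sga4h.BidTens.delta τ A L) ≪≫ (trId i).app _) ≪≫ (pullIso Λ τ).app A⟩

theorem laStalk_tw {X Y : Scheme.{u}} (ε : Y ⟶ X) [QuasiCompact ε] [QuasiSeparated ε]
    {L : EtModW.Mod Λ X} (hL : SGA5.IsInvertible L) (A : EtModW.Mod Λ X)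
    {k : Type u} [Field k] [IsSepClosed k] (ξ : Spec (CommRingCat.of k) ⟶ X) :
    LAStalk ε ((ab Λ X).obj ((tr L).obj A)) ξ ↔ LAStalk ε ((ab Λ X).obj A) ξ := by
  obtain ⟨C, _, _, τ, hτ, hτx⟩ := exists_isStrictLoc X (ξ default)
  exact laStalk_congr ε _ _ ξ hτ hτx.symm (nonempty_pull_tr hL hτ A).some

end Groth.Agent.Sga4h.H919.LaTwist
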