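import Groth.Agent.Sga4h.H919.Fam
import Groth.Agent.Sga4h.H919.LaTower
import Groth.Agent.Sga4h.UlaPunct909

/-!
# The stalk condition on the affine line over a strictly henselian `K`-algebra

* `laat_of_constructible`: for `κ` separably closed;
* `laat_of_tower`: for `κ` with Galois group of order prime to `n`.
-/

set_option autoImplicit false
universe u

open CategoryTheory CategoryTheory.Limits AlgebraicGeometry Opposite IsLocalRing

namespace Groth.Agent.Sga4h.H919.LaUla

open EtCoh ConcH Les3 NearTheta NearMain P1Geo LaTwist LaPoint P1Main Fam LaTower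
  Groth.Agent.EtpbcA.P1Charts Groth.Agent.EtpbcA.LA Groth.Agent.Etrest.StrictLoc
  Groth.Agent.Sga1.UlaSL Groth.Agent.Sga1.UlaRes Groth.Agent.Etrest.ModAb

variable {K : Type u} [Field K] {A : Type u} [CommRing A] [HenselianLocalRing A]
  [IsSepClosed (ResidueField A)] (f : K →+* A) (n : ℕ) (hn : (n : K) ≠ 0)
  (G : Ab (AA (CommRingCat.of K))) (hG : EtPBC.IsConstructible G) (hGn : KilledBy n G)

theorem amap_comp' {R₀ R R' : Type u} [CommRing R₀] [CommRing R] [CommRing R'] (ι : R₀ →+* R)
    (g : R →+* R') :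
    (amap (CommRingCat.ofHom g) : AA (CommRingCat.of R') ⟶ AA (CommRingCat.of R)) ≫
      amap (CommRingCat.ofHom ι) = amap (CommRingCat.ofHom (g.comp ι)) := by
  rw [← Spec.map_comp, ← CommRingCat.ofHom_comp]
  congr 2
  exact Polynomial.ringHom_ext (fun a => by simp) (by simp)

include hn hG hGn in
theorem laat_of_constructible {κ : Type u} [Field κ] [IsSepClosed κ] (g : A →+* κ) :
    LAat g ((pull (prA f)).obj G) := by
  intro k _ _ ξ hξ
  have sq := isPullback_amap (CommRingCat.ofHom (residue A))
  obtain ⟨z, hz, -⟩ := Scheme.exists_preimage_of_isPullback sq (ξ default)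
    (closedPoint (ResidueField A)) (by
      rw [hξ]
      exact (IsLocalRing.comap_closedPoint (residue A)).symm)
  have h := Groth.Agent.Sga4h.UlaPunct909.acycAt_of_constructible (pr (CommRingCat.of K))
    (Spec.map (CommRingCat.ofHom f)) (isPullback_amap (CommRingCat.ofHom f))
    (Spec.map (CommRingCat.ofHom g)) (isPullback_amap (CommRingCat.ofHom g)).flip
    (Spec.map (CommRingCat.ofHom (residue A)))
    (resPt_closedPoint A _) (i := amap (CommRingCat.ofHom (residue A)))
    (fs := pr _) sq.w n hn G hG hGn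
  exact Groth.Agent.Sga4h.UlaPunct909.laStalk_of_acycAt h ξ z hz

include hn hG hGn in
theorem laat_of_tower {κ : Type u} [Field κ] (g : A →+* κ)
    (hκ : ∀ (M : Type u) [Field M] [Algebra κ M] [FiniteDimensional κ M] [IsGalois κ M],
      (Module.finrank κ M).Coprime n) : LAat g ((pull (prA f)).obj G) := by
  intro k _ _ ξ hξ
  have h := laat_of_constructible f n hn G hG hGn
    ((algebraMap κ (SeparableClosure κ)).comp g) k ξ hξ
  rw [← amap_comp'] at h
  exact laStalk_of_sepClosure (pr (CommRingCat.of A)) κ (SeparableClosure κ) n hκ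
    (isPullback_amap (CommRingCat.ofHom g))
    (isPullback_amap (CommRingCat.ofHom (algebraMap κ (SeparableClosure κ))))
    _ (Groth.Agent.EtpbcB.TorsionBasic.killedBy_map _ _ _ hGn) ξ h

/-- The same for sheaves of modules. -/
theorem laat_mod {Λ : Type (u + 1)} [CommRing Λ] {κ : Type u} [Field κ] (g : A →+* κ)
    (M : EtModW.Mod Λ (AA (CommRingCat.of K)))
    (h : LAat g ((pull (prA f)).obj ((ab Λ _).obj M))) :
    LAat g ((ab Λ _).obj ((EtModW.pull Λ (prA f)).obj M)) := by
  intro k _ _ ξ hξ
  obtain ⟨C, _, _, τ, hτ, hτx⟩ := exists_isStrictLoc _ (ξ default)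
  exact (LaCongr.laStalk_congr _ _ _ ξ hτ hτx.symm
    ((pull τ).mapIso ((pullIso Λ (prA f)).app M))).2 (h k ξ hξ)

end Groth.Agent.Sga4h.H919.LaUla
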