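import Groth.Agent.Sga4h.H919.Cases
import Groth.Agent.Sga4h.H919.FaPbc
import Groth.Agent.Sga4h.H919.LaUla
import Groth.Agent.Sga4h.H545.StrictDvr
import Groth.Agent.Sga4h.UlaRingSch812

/-!
# The count for the sheaves `Fa` at all points `a ≠ 0`

`K` algebraically closed, `M` on `A^1_K` unipotent of rank `r` at infinity, with `H^*(P^1_K, j_! M)`
concentrated in degree one, of order `c`. Then `H^*(P^1_Ω, j_! (M ⊗ sh (a x)))` is concentrated in
degree one, of order `c * cΛ ^ r`, for `a ≠ 0` in a separably closed extension `Ω` of `K`.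
-/

set_option autoImplicit false
universe u

open CategoryTheory CategoryTheory.Limits AlgebraicGeometry Opposite IsLocalRing
open scoped Polynomial

namespace Groth.Agent.Sga4h.H919.Step

open EtCoh ConcH Les3 NearTheta NearMain P1Geo LaTwist LaPoint P1Main Fam FaPbc Cases LaUla
  Groth.Agent.EtpbcA.P1Charts Groth.Agent.EtpbcA.LA Groth.Agent.Etrest.StrictLoc
  Groth.Agent.Sga1.UlaSL Groth.Agent.Sga1.UlaRes Groth.Agent.Etrest.ModAb
  Groth.Agent.Sga4h.UlaRing812 Groth.Agent.Sga4h.UlaRingSch812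

theorem ConcAt.of_equiv {X Y : Scheme.{u}} {F : Ab X} {G : Ab Y} {q₀ c : ℕ}
    (e : ∀ q, Nonempty (H X F q ≃ H Y G q)) (h : ConcAt X F q₀ c) : ConcAt Y G q₀ c := by
  refine ⟨fun q hq => ?_, ?_, ?_⟩
  · obtain ⟨i⟩ := e q
    have := h.zero q hq
    exact i.symm.subsingleton
  · obtain ⟨i⟩ := e q₀
    have := h.fin
    exact Finite.of_equiv _ i
  · obtain ⟨i⟩ := e q₀
    rw [← h.card]
    exact (Nat.card_congr i).symm

/-- A retraction onto the coefficient field. -/
theorem exists_retr {K A : Type u} [Field K] [CommRing A] [IsLocalRing A] (ι : K →+* A)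
    (h : Function.Bijective ((residue A).comp ι)) :
    ∃ ψ : A →+* K, ψ.comp ι = RingHom.id K ∧ RingHom.ker ψ = maximalIdeal A := by
  let e : K ≃+* ResidueField A := RingEquiv.ofBijective _ h
  refine ⟨(e.symm : ResidueField A →+* K).comp (residue A), ?_, ?_⟩
  · ext x
    exact e.symm_apply_apply x
  · ext x
    rw [RingHom.mem_ker, RingHom.comp_apply, RingHom.coe_coe, map_eq_zero_iff _ e.symm.injective,
      residue_eq_zero_iff]

section data

variable {K : Type u} [Field K] [IsAlgClosed K] {V : Type u} [CommRing V] [IsDomain V]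
  [IsDiscreteValuationRing V] [HenselianLocalRing V] [Algebra K V] [Algebra K[X] V]
  [IsScalarTower K K[X] V]

/-- The integral closure of `V` in an algebraic extension of its fraction field. -/
theorem exists_data (a₀ : K) (hinj : Function.Injective (algebraMap K[X] V))
    (hirr : Irreducible (algebraMap K[X] V (Polynomial.X - Polynomial.C a₀)))
    (hbij : Function.Bijective ((residue V).comp (algebraMap K V)))
    (F : Type u) [Field F] [Algebra V F] [IsFractionRing V F] (L : Type u) [Field L] [Algebra F L]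
    [Algebra.IsAlgebraic F L] :
    ∃ (A : Type u) (_ : CommRing A) (_ : HenselianLocalRing A) (_ : IsSepClosed (ResidueField A))
      (ι : K →+* A) (g : A →+* L) (ψ : A →+* K) (a : A),
      IsOpenImmersion (Spec.map (CommRingCat.ofHom g)) ∧
      (∀ z : Spec (CommRingCat.of A), z ≠ closedPoint A →
        z ∈ Set.range (Spec.map (CommRingCat.ofHom g))) ∧
      ψ.comp ι = RingHom.id K ∧ RingHom.ker ψ = maximalIdeal A ∧ ψ a = a₀ ∧
      g.comp ι = (algebraMap F L).comp ((algebraMap V F).comp (algebraMap K V)) ∧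
      g a = algebraMap F L (algebraMap V F (algebraMap K[X] V Polynomial.X)) ∧
      Function.Injective (Polynomial.eval₂RingHom (g.comp ι) (g a)) := by
  let _ : Algebra V L := ((algebraMap F L).comp (algebraMap V F)).toAlgebra
  have htow : IsScalarTower V F L := IsScalarTower.of_algebraMap_eq fun r => rfl
  obtain ⟨h1, h2, h3, h4⟩ := Groth.Agent.Sga4h.H545.StrictDvr.integralClosure_facts hbij L
  let A := integralClosure V L
  let ι : K →+* A := (algebraMap V A).comp (algebraMap K V)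
  obtain ⟨ψ, h5, h6⟩ := exists_retr ι h4
  let a : A := algebraMap V A (algebraMap K[X] V Polynomial.X)
  have e1 : (algebraMap A L).comp (algebraMap V A) = (algebraMap F L).comp (algebraMap V F) := rfl
  refine ⟨A, inferInstance, h1, h3.2, ι, algebraMap A L, ψ, a, isOpenImmersion_gen V F L,
    fun z hz => (mem_range_gen_iff V F L z).2 hz, h5, h6, ?_, rfl, rfl, ?_⟩
  · have h7 : algebraMap V A (algebraMap K[X] V (Polynomial.X - Polynomial.C a₀)) ∈
        maximalIdeal A := by
      have h8 : algebraMap K[X] V (Polynomial.X - Polynomial.C a₀) ∈ maximalIdeal V :=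
        (mem_maximalIdeal _).2 hirr.not_isUnit
      have h9 := ((local_hom_TFAE (algebraMap V A)).out 0 2).1 h2
      exact h9 (Ideal.mem_map_of_mem _ h8)
    rw [← h6, RingHom.mem_ker, map_sub, map_sub, map_sub, sub_eq_zero] at h7
    have h10 : algebraMap V A (algebraMap K[X] V (Polynomial.C a₀)) = ι a₀ :=
      congrArg (algebraMap V A) (IsScalarTower.algebraMap_apply K K[X] V a₀).symm
    rw [h10] at h7
    exact h7.trans (RingHom.congr_fun h5 a₀)
  · have h11 : Polynomial.eval₂RingHom ((algebraMap A L).comp ι) (algebraMap A L a) =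
        (algebraMap F L).comp ((algebraMap V F).comp (algebraMap K[X] V)) := by
      refine Polynomial.ringHom_ext (fun b => ?_) ?_
      · simp only [Polynomial.coe_eval₂RingHom, Polynomial.eval₂_C]
        rw [RingHom.comp_apply, RingHom.comp_apply, RingHom.comp_apply, RingHom.comp_apply,
          show algebraMap K V b = algebraMap K[X] V (Polynomial.C b) from
            IsScalarTower.algebraMap_apply K K[X] V b]
        rfl
      · simp only [Polynomial.coe_eval₂RingHom, Polynomial.eval₂_X]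
        rfl
    rw [h11]
    exact (algebraMap F L).injective.comp ((IsFractionRing.injective V F).comp hinj)

end data

section main

variable {k : Type u} [Field k] [Fintype k] {Λ : Type (u + 1)} [CommRing Λ] (S : ASys k Λ)
  {K : Type u} [Field K] [IsAlgClosed K] (ρ : k →+* K) (i : Fin (1 + 1)) {n : ℕ} (hn : 0 < n)
  (hΛ : (n : Λ) = 0) (hnK : (n : K) ≠ 0) (hO4 : OnePointLes.{u})
  {B : Type u} [CommRing B] [IsLocalRing B]
  (σ : Spec (CommRingCat.of B) ⟶ PP (CommRingCat.of K)) (hσ : IsStrictLoc σ)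
  (hσx : σ (closedPoint B) ∉ Set.range (chart i (CommRingCat.of K)))
  (M : EtModW.Mod Λ (AA (CommRingCat.of K)))
  (hΛc : EtPBC.IsConstructible ((ab Λ (AA (CommRingCat.of K))).obj (EtModW.constMod Λ _ Λ)))
  (hMc : EtPBC.IsConstructible ((ab Λ (AA (CommRingCat.of K))).obj M))
  {r : ℕ} (hU : Unip Λ r ((EtModW.pull Λ (pullback.snd σ (chart i (CommRingCat.of K)))).obj M))
  (hV1 : ∀ (Ω : Type u) [Field Ω] [IsSepClosed Ω] (ι : K →+* Ω) (a : Ω), a ≠ 0 → ∀ q,
    Subsingleton (H (PP (CommRingCat.of Ω)) (Fa S ρ i ι a (EtModW.constMod Λ _ Λ)) q))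
  {cΛ cA : ℕ}
  (hV2 : ConcAt (PP (CommRingCat.of K)) (Fa S ρ i (RingHom.id K) 0 (EtModW.constMod Λ _ Λ)) 2 cΛ)
  (h0 : ConcAt (PP (CommRingCat.of K)) (Fa S ρ i (RingHom.id K) 0 M) 1 cA)

omit [IsAlgClosed K] in
include hΛ hnK hMc in
theorem laat_sep {A : Type u} [CommRing A] [HenselianLocalRing A] [IsSepClosed (ResidueField A)]
    (ι : K →+* A) {κ : Type u} [Field κ] [IsSepClosed κ] (g : A →+* κ) :
    LAat g ((ab Λ _).obj ((EtModW.pull Λ (prA ι)).obj M)) :=
  laat_mod ι g M (laat_of_constructible ι n hnK _ hMc (killedBy_ab hΛ M) g)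

include hn hΛ hnK hO4 hσ hσx hΛc hMc hU hV1 hV2 h0 in
/-- The generic point of the affine line of parameters. -/
theorem exists_generic :
    ∃ (L : Type u) (_ : Field L) (_ : IsSepClosed L) (ι : K →+* L) (a : L),
      Function.Injective (Polynomial.eval₂RingHom ι a) ∧
      ConcAt (PP (CommRingCat.of L)) (Fa S ρ i ι a M) 1 (cA * cΛ ^ r) := by
  obtain ⟨V, _, _, _, _, _, _, _, -, -, hinj, hirr, hbij, -⟩ :=
    Groth.Agent.Sga4h.H545.StrictDvr.exists_dvr K 0
  let L := SeparableClosure (FractionRing V)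
  obtain ⟨A, _, _, _, ι, g, ψ, a, h1, h2, h3, h4, h5, -, -, h6⟩ :=
    exists_data (0 : K) hinj hirr hbij (FractionRing V) L
  have ha : g a ≠ 0 := fun h => by
    have h7 : Polynomial.eval₂RingHom (g.comp ι) (g a) Polynomial.X =
        Polynomial.eval₂RingHom (g.comp ι) (g a) 0 := by
      rw [map_zero]
      simpa using h
    exact Polynomial.X_ne_zero (h6 h7)
  refine ⟨L, inferInstance, inferInstance, g.comp ι, g a, h6, ?_⟩
  refine fa_caseI S ρ i hn hΛ hO4 ι g h2 a σ hσ hσx M (laat_sep hΛ hnK _ hΛc ι g)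
    (laat_sep hΛ hnK _ hMc ι g) hU ?_ (hV1 L _ _ ha) ?_
  · refine ConcAt.of_equiv (fun q => ?_) hV2
    obtain ⟨e⟩ := equiv_Fa_closed S ρ i hn hΛ ψ h4 ι a (EtModW.constMod Λ _ Λ) q
    rw [h3, h5] at e
    exact ⟨e.symm⟩
  · refine ConcAt.of_equiv (fun q => ?_) h0
    obtain ⟨e⟩ := equiv_Fa_closed S ρ i hn hΛ ψ h4 ι a M q
    rw [h3, h5] at e
    exact ⟨e.symm⟩

include hn hΛ hnK hO4 hσ hσx hΛc hMc hU hV1 hV2 h0 in
/-- The count at the points `a₀ ≠ 0` of `K`. -/
theorem conc_closed (a₀ : K) (ha₀ : a₀ ≠ 0) :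
    ConcAt (PP (CommRingCat.of K)) (Fa S ρ i (RingHom.id K) a₀ M) 1 (cA * cΛ ^ r) := by
  obtain ⟨L', _, _, ι', a', h', hL'⟩ := exists_generic S ρ i hn hΛ hnK hO4 σ hσ hσx M hΛc hMc hU hV1
    hV2 h0
  obtain ⟨V, _, _, _, _, _, _, _, -, -, hinj, hirr, hbij, -⟩ :=
    Groth.Agent.Sga4h.H545.StrictDvr.exists_dvr K a₀
  let L := SeparableClosure (FractionRing V)
  obtain ⟨A, _, _, _, ι, g, ψ, a, h1, h2, h3, h4, h5, -, -, h6⟩ :=
    exists_data a₀ hinj hirr hbij (FractionRing V) L
  have ha : g a ≠ 0 := fun h => by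
    have h7 : Polynomial.eval₂RingHom (g.comp ι) (g a) Polynomial.X =
        Polynomial.eval₂RingHom (g.comp ι) (g a) 0 := by
      rw [map_zero]
      simpa using h
    exact Polynomial.X_ne_zero (h6 h7)
  have hA : ∀ q, Subsingleton (H (PP (CommRingCat.of A)) (Fa S ρ i ι a (EtModW.constMod Λ _ Λ)) q) := by
    intro q
    obtain ⟨e⟩ := equiv_Fa_closed S ρ i hn hΛ ψ h4 ι a (EtModW.constMod Λ _ Λ) q
    rw [h3, h5] at e
    have := hV1 K (RingHom.id K) a₀ ha₀ q
    exact e.subsingleton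
  refine ConcAt.of_equiv (fun q => ?_) hL'
  obtain ⟨e1⟩ := equiv_Fa_generic S ρ i hn hΛ ι' a' h' (g.comp ι) (g a) h6 M q
  obtain ⟨e2⟩ := fa_caseII S ρ i hn hΛ hO4 ι g h2 a σ hσ hσx M (laat_sep hΛ hnK _ hΛc ι g)
    (laat_sep hΛ hnK _ hMc ι g) hU hA (hV1 L _ _ ha) q
  obtain ⟨e3⟩ := equiv_Fa_closed S ρ i hn hΛ ψ h4 ι a M q
  rw [h3, h5] at e3
  exact ⟨e1.trans (e2.symm.trans e3)⟩

include hn hΛ hnK hO4 hσ hσx hΛc hMc hU hV1 hV2 h0 in
/-- **The count at the points `a ≠ 0`.** -/
theorem conc_Fa {Ω : Type u} [Field Ω] [IsSepClosed Ω] (ι : K →+* Ω) (a : Ω) (ha : a ≠ 0) :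
    ConcAt (PP (CommRingCat.of Ω)) (Fa S ρ i ι a M) 1 (cA * cΛ ^ r) := by
  by_cases h : Function.Injective (Polynomial.eval₂RingHom ι a)
  · obtain ⟨L', _, _, ι', a', h', hL'⟩ := exists_generic S ρ i hn hΛ hnK hO4 σ hσ hσx M hΛc hMc hU
      hV1 hV2 h0
    exact ConcAt.of_equiv (fun q => equiv_Fa_generic S ρ i hn hΛ ι' a' h' ι a h M q) hL'
  · obtain ⟨a₀, rfl⟩ : ∃ a₀, ι a₀ = a := by
      rw [injective_iff_map_eq_zero] at h
      push Not at h
      obtain ⟨p, hp, hp0⟩ := h
      rw [(IsAlgClosed.splits p).eq_prod_roots] at hp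
      rw [map_mul, map_multiset_prod, mul_eq_zero] at hp
      rcases hp with hp | hp
      · rw [Polynomial.coe_eval₂RingHom, Polynomial.eval₂_C, map_eq_zero,
          Polynomial.leadingCoeff_eq_zero] at hp
        exact absurd hp hp0
      · rw [Multiset.map_map, Multiset.prod_eq_zero_iff, Multiset.mem_map] at hp
        obtain ⟨a₀, -, h1⟩ := hp
        refine ⟨a₀, ?_⟩
        rw [Function.comp_apply, map_sub, Polynomial.coe_eval₂RingHom, Polynomial.eval₂_X,
          Polynomial.eval₂_C] at h1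
        exact (sub_eq_zero.1 h1).symm
    have h3 := conc_closed S ρ i hn hΛ hnK hO4 σ hσ hσx M hΛc hMc hU hV1 hV2 h0 a₀
      (fun h => ha (by rw [h, map_zero]))
    refine ConcAt.of_equiv (fun q => ?_) h3
    exact equiv_Fa_field S ρ i hn hΛ ι (RingHom.id K) a₀ M q

end main

end Groth.Agent.Sga4h.H919.Step
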