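import Groth.Agent.Sga4h.H919.Step
import Groth.Agent.Sga4h.H479.Tower
import Groth.Agent.Sga4h.NcRoot

/-!
# Unipotence at `a = 0` of the cohomology of the sheaves `Fa`

`V` a strict localization of the affine line of parameters at `0`, `F` its fraction field, `t` the parameter,
`N` a sheaf of modules on `Spec F` whose sections over a field extension `L'` of `F` are
`H^1(P^1_{L'}, j_! (M ⊗ sh (t x)))`: `N` is unipotent of rank `r + 1`.
-/

set_option autoImplicit false
universe u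

open CategoryTheory CategoryTheory.Limits AlgebraicGeometry Opposite IsLocalRing
open scoped Polynomial

namespace Groth.Agent.Sga4h.H919.StepTower

open EtCoh ConcH Les3 NearTheta NearMain P1Geo LaTwist LaPoint P1Main Fam FaPbc Cases LaUla Step
  Groth.Agent.EtpbcA.P1Charts Groth.Agent.EtpbcA.LA Groth.Agent.Etrest.StrictLoc
  Groth.Agent.Sga1.UlaSL Groth.Agent.Sga1.UlaRes Groth.Agent.Etrest.ModAb
  Groth.Agent.Sga4h.UlaRing812 Groth.Agent.Sga4h.UlaRingSch812
open Groth.Agent.Dix.ProjProper (mapBase mapBase_toZ mapBase_toBase isPullback_mapBase)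

variable {k : Type u} [Field k] [Fintype k] {Λ : Type (u + 1)} [CommRing Λ] (S : ASys k Λ)
  {K : Type u} [Field K] (ρ : k →+* K) (i : Fin (1 + 1)) {n : ℕ}
  (hΛ : (n : Λ) = 0)

include hΛ in
/-- Vanishing over a field whose Galois group has order prime to `n` follows from vanishing over its
separable closure. -/
theorem subsingleton_of_sepClosure (L Ω : Type u) [Field L] [Field Ω] [Algebra L Ω]
    [IsSepClosure L Ω]
    (hL : ∀ (M : Type u) [Field M] [Algebra L M] [FiniteDimensional L M] [IsGalois L M],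
      (Module.finrank L M).Coprime n)
    (ι : K →+* L) (a : L) (M : EtModW.Mod Λ (AA (CommRingCat.of K))) (q : ℕ)
    (h : Subsingleton (H (PP (CommRingCat.of Ω))
      (Fa S ρ i ((algebraMap L Ω).comp ι) (algebraMap L Ω a) M) q)) :
    Subsingleton (H (PP (CommRingCat.of L)) (Fa S ρ i ι a M) q) := by
  have h1 : IsProper (toB (CommRingCat.of L)) := Groth.Agent.Dix.ProjProper.isProper_toBase 1 _
  have hinj := Groth.Agent.Sga4h.NcTransfer.W2 L Ω n hL (toB (CommRingCat.of L))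
    (mapBase 1 (Spec.map (CommRingCat.ofHom (algebraMap L Ω)))) (toB (CommRingCat.of Ω))
    (isPullback_mapBase 1 (Spec.map (CommRingCat.ofHom (algebraMap L Ω)))) (Fa S ρ i ι a M)
    (killedBy_Fa S ρ i hΛ ι a M) q
  obtain ⟨e⟩ := bcFa S ρ i ι a (algebraMap L Ω) M
  obtain ⟨e'⟩ := FaPbc.equivH_of_iso e q
  have := e'.subsingleton
  exact hinj.subsingleton

section tower

variable {k : Type u} [Field k] [Fintype k] {Λ : Type (u + 1)} [Field Λ] [Finite Λ] {ℓ : ℕ}
  (hℓ : ℓ.Prime) [CharP Λ ℓ] (S : ASys k Λ)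
  {K : Type u} [Field K] [IsAlgClosed K] (ρ : k →+* K) (i : Fin (1 + 1)) (hℓK : (ℓ : K) ≠ 0)
  (hO4 : OnePointLes.{u}) {B : Type u} [CommRing B] [IsLocalRing B]
  (σ : Spec (CommRingCat.of B) ⟶ PP (CommRingCat.of K)) (hσ : IsStrictLoc σ)
  (hσx : σ (closedPoint B) ∉ Set.range (chart i (CommRingCat.of K)))
  (M : EtModW.Mod Λ (AA (CommRingCat.of K)))
  (hΛc : EtPBC.IsConstructible ((ab Λ (AA (CommRingCat.of K))).obj (EtModW.constMod Λ _ Λ)))
  (hMc : EtPBC.IsConstructible ((ab Λ (AA (CommRingCat.of K))).obj M))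
  {r : ℕ} (hU : Unip Λ r ((EtModW.pull Λ (pullback.snd σ (chart i (CommRingCat.of K)))).obj M))
  (hV1 : ∀ (Ω : Type u) [Field Ω] [IsSepClosed Ω] (ι : K →+* Ω) (a : Ω), a ≠ 0 → ∀ q,
    Subsingleton (H (PP (CommRingCat.of Ω)) (Fa S ρ i ι a (EtModW.constMod Λ _ Λ)) q))
  (hV2 : ConcAt (PP (CommRingCat.of K)) (Fa S ρ i (RingHom.id K) 0 (EtModW.constMod Λ _ Λ)) 2
    (Nat.card Λ))
  {c : ℕ} (h0 : ConcAt (PP (CommRingCat.of K)) (Fa S ρ i (RingHom.id K) 0 M) 1 (Nat.card Λ ^ c))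
  {V : Type u} [CommRing V] [IsDomain V] [IsDiscreteValuationRing V] [HenselianLocalRing V]
  [Algebra K V] [Algebra K[X] V] [IsScalarTower K K[X] V]
  (hVs : EtCoh.IsStrictlyHenselianLocalRing V) (hinj : Function.Injective (algebraMap K[X] V))
  (hirr : Irreducible (algebraMap K[X] V (Polynomial.X - Polynomial.C 0)))
  (hbij : Function.Bijective ((residue V).comp (algebraMap K V)))
  {F : Type u} [Field F] [Algebra V F] [IsFractionRing V F]
  (N : EtModW.Mod Λ (Spec (CommRingCat.of F)))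
  (hN : ∀ (L' : Type u) [Field L'] [Algebra F L'], Nonempty
    (H (Spec (CommRingCat.of L')) ((ab Λ _).obj ((EtModW.pull Λ
      (Spec.map (CommRingCat.ofHom (algebraMap F L')))).obj N)) 0 ≃
    H (PP (CommRingCat.of L')) (Fa S ρ i ((algebraMap F L').comp
      ((algebraMap V F).comp (algebraMap K V)))
      (algebraMap F L' (algebraMap V F (algebraMap K[X] V Polynomial.X))) M) 1))

include hℓ hℓK hO4 hσ hσx hΛc hMc hU hV1 hV2 h0 hVs hinj hirr hbij hN in
/-- **Unipotence at `0`.** -/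
theorem unip_tower : Unip Λ (r + c) N := by
  have hn : 0 < ℓ := hℓ.pos
  have hΛ : (ℓ : Λ) = 0 := CharP.cast_eq_zero Λ ℓ
  have hu : IsUnit (ℓ : V) := by
    have h := (IsUnit.mk0 _ hℓK).map (algebraMap K V)
    rwa [map_natCast] at h
  obtain ⟨L, _, _, _, _, _, hroot, htower⟩ :=
    Groth.Agent.Sga4h.H479.Tower.towerStmt V hVs F ℓ hℓ hu
  have hL : ∀ (M : Type u) [Field M] [Algebra L M] [FiniteDimensional L M] [IsGalois L M],
      (Module.finrank L M).Coprime ℓ := Groth.Agent.Sga4h.NcRoot.A1 V hVs F L ℓ hu hroot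
  let Ω := SeparableClosure L
  obtain ⟨A, _, _, _, ι, g, ψ, a, h1, h2, h3, h4, h5, h7, h8, h6⟩ :=
    exists_data (0 : K) hinj hirr hbij F L
  have ha : g a ≠ 0 := fun h => by
    have h7 : Polynomial.eval₂RingHom (g.comp ι) (g a) Polynomial.X =
        Polynomial.eval₂RingHom (g.comp ι) (g a) 0 := by
      rw [map_zero]
      simpa using h
    exact Polynomial.X_ne_zero (h6 h7)
  have haΩ : algebraMap L Ω (g a) ≠ 0 := by
    rw [Ne, map_eq_zero]
    exact ha
  -- the count over `L`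
  have key : ConcAt (PP (CommRingCat.of L)) (Fa S ρ i (g.comp ι) (g a) M) 1
      (Nat.card Λ ^ c * Nat.card Λ ^ r) := by
    refine fa_caseI S ρ i hn hΛ hO4 ι g h2 a σ hσ hσx M
      (laat_mod ι g _ (laat_of_tower ι ℓ hℓK _ hΛc (killedBy_ab hΛ _) g hL))
      (laat_mod ι g _ (laat_of_tower ι ℓ hℓK _ hMc (killedBy_ab hΛ _) g hL)) hU ?_
      (fun q => subsingleton_of_sepClosure S ρ i hΛ L Ω hL (g.comp ι) (g a) _ q
        (hV1 Ω _ _ haΩ q)) ?_
    · refine ConcAt.of_equiv (fun q => ?_) hV2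
      obtain ⟨e⟩ := equiv_Fa_closed S ρ i hn hΛ ψ h4 ι a (EtModW.constMod Λ _ Λ) q
      rw [h3, h5] at e
      exact ⟨e.symm⟩
    · refine ConcAt.of_equiv (fun q => ?_) h0
      obtain ⟨e⟩ := equiv_Fa_closed S ρ i hn hΛ ψ h4 ι a M q
      rw [h3, h5] at e
      exact ⟨e.symm⟩
  rw [h7, h8] at key
  let _ : Algebra F Ω := ((algebraMap L Ω).comp (algebraMap F L)).toAlgebra
  have htow : IsScalarTower F L Ω := IsScalarTower.of_algebraMap_eq fun _ => rfl
  have keyΩ := conc_Fa S ρ i hn hΛ hℓK hO4 σ hσ hσx M hΛc hMc hU hV1 hV2 h0 (Ω := Ω)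
    ((algebraMap F Ω).comp ((algebraMap V F).comp (algebraMap K V)))
    (algebraMap F Ω (algebraMap V F (algebraMap K[X] V Polynomial.X))) (by
      change algebraMap L Ω (algebraMap F L (algebraMap V F (algebraMap K[X] V Polynomial.X))) ≠ 0
      rw [← h8]
      exact haΩ)
  have hcard : Nat.card Λ ^ c * Nat.card Λ ^ r = Nat.card Λ ^ (r + c) := by
    rw [pow_add, mul_comm]
  obtain ⟨e1⟩ := hN Ω
  obtain ⟨e2⟩ := hN L
  have := keyΩ.fin
  refine htower Λ N (r + c) Ω (Finite.of_equiv _ e1.symm) ?_ ?_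
  · rw [Nat.card_congr e1, keyΩ.card, hcard]
  · rw [Nat.card_congr e2, key.card, hcard]

end tower

end Groth.Agent.Sga4h.H919.StepTower
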